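import Groth.Agent.Lib.RamSam27.Localization
import Groth.Agent.Lib.AndreFS1.Main
import Groth.Agent.Lib.FSFlat3.RegularHom
import Groth.Agent.Lib.FlatDepth.FibreStalk
import Groth.Agent.Lib.SerreCrit.Basic
import Groth.Agent.Lib.FormalH7.CplRing
import Groth.Agent.Lib.UCat.Universal
import Groth.Agent.S5774

/-!
# Ramanujam–Samuel over a base with normal completion
-/

set_option autoImplicit false
set_option linter.style.haveILetI false

universe u

open TensorProduct IsLocalRing

namespace Groth.Agent.RamSam27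

open Groth.Agent.CIPic27 Groth.Agent.CplLocH7

theorem isRegularLocalRing_fibRing {A T : Type u} [CommRing A] [IsLocalRing A] [IsNoetherianRing A] [CommRing T]
    [IsLocalRing T] [IsNoetherianRing T] [Algebra A T] [IsLocalHom (algebraMap A T)]
    (hfs : CAlgX.IsAdicFormallySmooth A T (maximalIdeal T)) : IsRegularLocalRing (EGA4.FibRing A T) := by
  let k := ResidueField A
  have hk : Function.Surjective (algebraMap A k) := residue_surjective
  obtain ⟨-, hgeo⟩ := (FSFlat3.isAdicFormallySmooth_iff hk).1 hfs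
  letI : Algebra k (EGA4.FibRing A T) :=
    (Ideal.Quotient.lift (maximalIdeal A) (algebraMap A (EGA4.FibRing A T)) fun a ha => by
      rw [IsScalarTower.algebraMap_apply A T (EGA4.FibRing A T)]
      exact Ideal.Quotient.eq_zero_iff_mem.2 (Ideal.mem_map_of_mem _ ha)).toAlgebra
  obtain ⟨e₀⟩ := CohenAlg3.nonempty_fibre_algEquiv' hk (Ideal.Quotient.mk (EGA4.mB A T))
    Ideal.Quotient.mk_surjective Ideal.mk_ker (fun a => rfl)
  exact AdicSmooth.isRegularLocalRing_of_adicFS
    (FSFlat3.adicFS_iff_geometricallyRegular.2 (CohenAlg3.isGeometricallyRegular_of_algEquiv e₀ hgeo))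

theorem one_le_depth_of_regular {R : Type u} [CommRing R] [IsRegularLocalRing R] (h : ¬ IsField R) :
    (1 : ℕ∞) ≤ LocCoh.depth R R := by
  haveI := RegLoc.isDomain R
  obtain ⟨x, hx, hx0⟩ : ∃ x ∈ maximalIdeal R, x ≠ 0 := by
    by_contra! hc
    exact h (isField_iff_maximalIdeal_eq.2 ((Submodule.eq_bot_iff _).2 hc))
  exact DepthLib.one_le_idealDepth_of_regular hx (IsSMulRegular.of_right_eq_zero_of_smul fun y hy =>
    (mul_eq_zero.1 hy).resolve_left hx0)

theorem two_le_depth_of_regular {R : Type u} [CommRing R] [IsRegularLocalRing R]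
    (h : (2 : WithBot ℕ∞) ≤ ringKrullDim R) : (2 : ℕ∞) ≤ LocCoh.depth R R := by
  haveI := RegLoc.isDomain R
  haveI := RegLoc.ufd_of_isRegularLocalRing R
  exact SerreCrit.two_le_depth_of_normal R h

/-- An element regular on the closed fibre is regular modulo every ideal of the base. -/
theorem mem_map_of_mul_mem {A B : Type u} [CommRing A] [CommRing B] [Algebra A B] {f : B} (hf : IsSMulRegular B f)
    [Module.Flat A (B ⧸ Ideal.span {f})] {J : Ideal A} {x : B} (hx : f * x ∈ J.map (algebraMap A B)) :
    x ∈ J.map (algebraMap A B) := by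
  classical
  have hx' : f * x ∈ J • (⊤ : Submodule A B) := by
    rwa [Ideal.smul_top_eq_map, Submodule.restrictScalars_mem]
  rw [← Submodule.restrictScalars_mem A, ← Ideal.smul_top_eq_map]
  obtain ⟨l, p, b, hp, hsum⟩ : ∃ (l : ℕ) (p : Fin l → A) (b : Fin l → B), (∀ i, p i ∈ J) ∧ f * x = ∑ i, p i • b i := by
    refine Submodule.smul_induction_on hx' (fun r hr y _ => ⟨1, fun _ => r, fun _ => y, fun _ => hr, by simp⟩) ?_
    rintro y z ⟨n, a, c, ha, rfl⟩ ⟨n', a', c', ha', rfl⟩
    refine ⟨n + n', Fin.append a a', Fin.append c c', fun i => ?_, by simp [Fin.sum_univ_add]⟩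
    induction i using Fin.addCases with
    | left i => simpa using ha i
    | right i => simpa using ha' i
  let π : B →ₗ[A] B ⧸ Ideal.span {f} := (Ideal.Quotient.mkₐ A (Ideal.span {f})).toLinearMap
  have hrel : ∑ i, p i • π (b i) = 0 := by
    simp_rw [← map_smul, ← map_sum, ← hsum]
    exact Ideal.Quotient.eq_zero_iff_mem.2 (Ideal.mul_mem_right _ _ (Ideal.mem_span_singleton_self f))
  obtain ⟨m, α, y, hy, hα⟩ := Module.Flat.isTrivialRelation_of_sum_smul_eq_zero (R := A) (M := B ⧸ Ideal.span {f})
    (f := p) (x := fun i => π (b i)) (by exact hrel)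
  choose y' hy' using fun j : Fin m => Ideal.Quotient.mk_surjective (y j)
  have hz : ∀ i, ∃ z, b i = (∑ j, α i j • y' j) + f * z := fun i => by
    have h0 : π (b i - ∑ j, α i j • y' j) = 0 := by
      rw [map_sub, map_sum, sub_eq_zero]
      simp_rw [map_smul]
      exact (hy i).trans (Finset.sum_congr rfl fun j _ => congrArg (α i j • ·) (hy' j).symm)
    obtain ⟨z, hz⟩ := Ideal.mem_span_singleton'.1 (Ideal.Quotient.eq_zero_iff_mem.1 h0)
    exact ⟨z, by rw [mul_comm, hz, add_sub_cancel]⟩
  choose z hz using hz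
  have : x = ∑ i, p i • z i := hf (by
    show f * x = f * _
    rw [hsum, Finset.mul_sum]
    simp_rw [hz, smul_add, Finset.sum_add_distrib, Finset.smul_sum, smul_smul]
    rw [Finset.sum_comm]
    simp_rw [← Finset.sum_smul, hα, zero_smul, Finset.sum_const_zero, zero_add, mul_smul_comm])
  rw [this]
  exact Submodule.sum_mem _ fun i _ => Submodule.smul_mem_smul (hp i) trivial

/-- Ramanujam–Samuel for a base with normal completion. -/
theorem ptm_localization_normal {A B : Type u} [CommRing A] [IsLocalRing A] [IsNoetherianRing A] [CommRing B]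
    [IsLocalRing B] [IsNoetherianRing B] [Algebra A B] [IsLocalHom (algebraMap A B)]
    (hfs : EGA41.IsFormallySmoothAdic A (maximalIdeal A) B (maximalIdeal B))
    (k' : Type u) [Field k'] [Algebra (ResidueField A) k'] [Module.Finite (ResidueField A) k']
    (M : Ideal (k' ⊗[ResidueField A] ResidueField B)) [M.IsMaximal]
    (hsep : Algebra.IsGeometricallyReduced k' ((k' ⊗[ResidueField A] ResidueField B) ⧸ M))
    [IsDomain (Cpl A)] [IsIntegrallyClosed (Cpl A)]
    (q : Ideal B) [q.IsPrime] (hq : ¬ q ≤ (maximalIdeal A).map (algebraMap A B))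
    (hdim : (2 : WithBot ℕ∞) ≤ ringKrullDim (Localization.AtPrime q)) :
    PTm (Localization.AtPrime q) ∧ (2 : ℕ∞) ≤ LocCoh.depth (Localization.AtPrime q) (Localization.AtPrime q) := by
  have hle : (maximalIdeal A).map (algebraMap A B) ≤ maximalIdeal B :=
    ((local_hom_TFAE (algebraMap A B)).out 0 2).1 ‹_›
  let A₁ := Cpl A
  let B₁ := Cpl B
  letI : Algebra A₁ B₁ := (FSch.complMap (maximalIdeal A) (maximalIdeal B) (algebraMap A B) hle).toAlgebra
  haveI : IsScalarTower A A₁ B₁ := .of_algebraMap_eq fun a => by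
    rw [RingHom.algebraMap_toAlgebra, FormalH7.complMap_algebraMap, ← IsScalarTower.algebraMap_apply]
  haveI := faithfullyFlat_cpl A
  haveI := faithfullyFlat_cpl B
  haveI : IsAdicComplete (maximalIdeal A₁) A₁ := by
    rw [maximalIdeal_cpl]; exact AdicCompletion.isAdicComplete_self _ (maximalIdeal A).fg_of_isNoetherianRing
  haveI : IsAdicComplete (maximalIdeal B₁) B₁ := by
    rw [maximalIdeal_cpl]; exact AdicCompletion.isAdicComplete_self _ (maximalIdeal B).fg_of_isNoetherianRing
  have hmapB : (maximalIdeal A₁).map (algebraMap A₁ B₁) =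
      ((maximalIdeal A).map (algebraMap A B)).map (algebraMap B B₁) := by
    rw [maximalIdeal_cpl, Ideal.map_map, ← IsScalarTower.algebraMap_eq, Ideal.map_map, ← IsScalarTower.algebraMap_eq]
  haveI : IsLocalHom (algebraMap A₁ B₁) := ((local_hom_TFAE (algebraMap A₁ B₁)).out 0 2).2
    (hmapB.le.trans ((Ideal.map_mono hle).trans (maximalIdeal_cpl B).ge))
  have hfs₁ : EGA41.IsFormallySmoothAdic A₁ (maximalIdeal A₁) B₁ (maximalIdeal B₁) := by
    intro C _ _ J hJ hC u hu
    obtain ⟨N, hN⟩ := hC
    letI : Algebra A C := ((algebraMap A₁ C).comp (algebraMap A A₁)).toAlgebra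
    haveI : IsScalarTower A A₁ C := .of_algebraMap_eq fun _ => rfl
    have hfsA := (Groth.Agent.S2461.result (maximalIdeal A) (maximalIdeal B)).1 hfs
    rw [← maximalIdeal_cpl] at hfsA
    obtain ⟨v, hv⟩ := hfsA C J hJ ⟨N, by
      rw [IsScalarTower.algebraMap_eq A A₁ C, ← Ideal.map_map, Ideal.map_pow, ← maximalIdeal_cpl]
      exact hN⟩ (u.restrictScalars A) hu
    refine ⟨{ v with commutes' := fun a => ?_ }, AlgHom.ext fun x => AlgHom.congr_fun hv x⟩
    obtain ⟨a₀, ha⟩ := exists_sub_mem_pow N a
    have h1 : algebraMap A₁ C (a - algebraMap A A₁ a₀) = 0 :=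
      (Submodule.mem_bot C).1 (hN.le (Ideal.mem_map_of_mem _ ha))
    have h2 : v (algebraMap A₁ B₁ (a - algebraMap A A₁ a₀)) = 0 := by
      rw [maximalIdeal_cpl, ← Ideal.map_pow] at ha
      refine (Ideal.map_le_iff_le_comap (K := RingHom.ker (v.toRingHom.comp (algebraMap A₁ B₁)))).2 (fun m hm => ?_) ha
      show v (algebraMap A₁ B₁ (algebraMap A A₁ m)) = 0
      rw [← IsScalarTower.algebraMap_apply, v.commutes]
      refine (Submodule.mem_bot C).1 (hN.le ?_)
      rw [IsScalarTower.algebraMap_apply A A₁ C]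
      refine Ideal.mem_map_of_mem _ ?_
      rw [maximalIdeal_cpl, ← Ideal.map_pow]
      exact Ideal.mem_map_of_mem _ hm
    show v (algebraMap A₁ B₁ a) = algebraMap A₁ C a
    rw [map_sub, map_sub, sub_eq_zero] at h2
    rw [map_sub, sub_eq_zero] at h1
    rw [h2, h1, ← IsScalarTower.algebraMap_apply A A₁ B₁, v.commutes, ← IsScalarTower.algebraMap_apply A A₁ C]
  have hreg := AndreFS1.isRegularHom_of_adicFS A₁ B₁ (adicFS_of_EGA41 hfs₁)
  haveI hflat₁ : Module.Flat A₁ B₁ := hreg.1
  -- a prime over `q`
  have hne : q.map (algebraMap B B₁) ≠ ⊤ := fun h =>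
    ‹q.IsPrime›.ne_top (by
      have := q.comap_map_eq_self_of_faithfullyFlat (B := B₁)
      rwa [h, Ideal.comap_top, eq_comm] at this)
  obtain ⟨Q, hQ⟩ := Ideal.nonempty_minimalPrimes hne
  haveI := hQ.1.1
  have hQB := comap_eq_of_mem_minimalPrimes q hQ
  let P := Q.comap (algebraMap A₁ B₁)
  letI : Algebra (Localization.AtPrime P) (Localization.AtPrime Q) :=
    (Localization.localRingHom P Q (algebraMap A₁ B₁) rfl).toAlgebra
  haveI : IsScalarTower A₁ (Localization.AtPrime P) (Localization.AtPrime Q) := .of_algebraMap_eq fun x => by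
    rw [IsScalarTower.algebraMap_apply A₁ B₁ (Localization.AtPrime Q)]
    exact (Localization.localRingHom_to_map P Q (algebraMap A₁ B₁) rfl x).symm
  haveI := FSFlat3.isLocalHom_of_tower P Q rfl
  haveI : IsNoetherianRing (Localization.AtPrime P) := IsLocalization.isNoetherianRing P.primeCompl _ inferInstance
  haveI : IsNoetherianRing (Localization.AtPrime Q) := IsLocalization.isNoetherianRing Q.primeCompl _ inferInstance
  haveI : IsNoetherianRing (Localization.AtPrime q) := IsLocalization.isNoetherianRing q.primeCompl _ inferInstance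
  have hfsQ := FSFlat3.isAdicFormallySmooth_localization P Q rfl (hreg.2 P).2
  haveI := FSFlat3.flat_of_isAdicFormallySmooth hfsQ
  haveI := isRegularLocalRing_fibRing hfsQ
  -- the fibre has positive dimension
  have hnf : ¬ IsField (EGA4.FibRing (Localization.AtPrime P) (Localization.AtPrime Q)) := by
    intro hF
    obtain ⟨f₀, hf₀, hf₀'⟩ := SetLike.not_le_iff_exists.1 hq
    let f := algebraMap B B₁ f₀
    have hfJ : f ∉ (maximalIdeal A₁).map (algebraMap A₁ B₁) := by
      rw [hmapB]
      intro h
      exact hf₀' (((maximalIdeal A).map (algebraMap A B)).comap_map_eq_self_of_faithfullyFlat (B := B₁) ▸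
        (Ideal.mem_comap.2 h))
    haveI := isRegularLocalRing_fibRing (adicFS_of_EGA41 hfs₁)
    haveI := RegLoc.isDomain (EGA4.FibRing A₁ B₁)
    have hreg' : RingTheory.Sequence.IsWeaklyRegular
        (B₁ ⧸ ((maximalIdeal A₁).map (algebraMap A₁ B₁) • (⊤ : Submodule B₁ B₁))) [f] := by
      rw [RingTheory.Sequence.isWeaklyRegular_cons_iff]
      refine ⟨IsSMulRegular.of_right_eq_zero_of_smul fun y hy => ?_, RingTheory.Sequence.IsWeaklyRegular.nil _ _⟩
      obtain ⟨y, rfl⟩ := Submodule.Quotient.mk_surjective _ y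
      rw [← Submodule.Quotient.mk_smul, Submodule.Quotient.mk_eq_zero, smul_eq_mul,
        Ideal.mul_top] at hy
      rw [Submodule.Quotient.mk_eq_zero, Ideal.smul_eq_mul, Ideal.mul_top]
      have h0 : Ideal.Quotient.mk (EGA4.mB A₁ B₁) f * Ideal.Quotient.mk _ y = 0 := by
        rw [← map_mul]; exact Ideal.Quotient.eq_zero_iff_mem.2 hy
      exact Ideal.Quotient.eq_zero_iff_mem.1 ((mul_eq_zero.1 h0).resolve_left fun h =>
        hfJ (Ideal.Quotient.eq_zero_iff_mem.1 h))
    obtain ⟨h1, h2⟩ := Groth.Agent.S5774.result A₁ B₁ B₁ [f] hreg'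
    have hfreg : IsSMulRegular B₁ f := ((RingTheory.Sequence.isWeaklyRegular_cons_iff _ _ _).1 h1).1
    have hIeq : Ideal.ofList (([f] : List B₁).take 1) • (⊤ : Submodule B₁ B₁) = Ideal.span {f} := by
      rw [Ideal.smul_eq_mul, Ideal.mul_top]
      simp
    haveI := h2 1 le_rfl
    haveI : Module.Flat A₁ (B₁ ⧸ Ideal.span {f}) :=
      Module.Flat.of_linearEquiv ((Submodule.quotEquivOfEq _ _ hIeq).restrictScalars A₁).symm
    have hfQ : f ∈ Q := by
      have : f₀ ∈ Q.comap (algebraMap B B₁) := hQB.ge hf₀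
      exact this
    have hmax : EGA4.mB (Localization.AtPrime P) (Localization.AtPrime Q) = maximalIdeal (Localization.AtPrime Q) :=
      eq_maximalIdeal (Ideal.Quotient.maximal_of_isField _ hF)
    have hf' : algebraMap B₁ (Localization.AtPrime Q) f ∈ (P.map (algebraMap A₁ B₁)).map (algebraMap B₁ _) := by
      rw [Ideal.map_map, ← IsScalarTower.algebraMap_eq, IsScalarTower.algebraMap_eq A₁ (Localization.AtPrime P),
        ← Ideal.map_map, Localization.AtPrime.map_eq_maximalIdeal]
      show _ ∈ EGA4.mB (Localization.AtPrime P) (Localization.AtPrime Q)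
      rw [hmax]
      exact (IsLocalization.AtPrime.to_map_mem_maximal_iff _ Q f).2 hfQ
    obtain ⟨s, hs, hsf⟩ := (IsLocalization.algebraMap_mem_map_algebraMap_iff Q.primeCompl _ _ f).1 hf'
    rw [mul_comm] at hsf
    exact hs (Ideal.map_le_iff_le_comap.2 le_rfl (mem_map_of_mul_mem hfreg hsf))
  -- descend to `B_q`
  letI : Algebra (Localization.AtPrime q) (Localization.AtPrime Q) :=
    (Localization.localRingHom q Q (algebraMap B B₁) hQB.symm).toAlgebra
  haveI : IsScalarTower B (Localization.AtPrime q) (Localization.AtPrime Q) := .of_algebraMap_eq fun x => by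
    rw [IsScalarTower.algebraMap_apply B B₁ (Localization.AtPrime Q)]
    exact (Localization.localRingHom_to_map q Q (algebraMap B B₁) hQB.symm x).symm
  haveI : IsLocalHom (algebraMap (Localization.AtPrime q) (Localization.AtPrime Q)) :=
    Localization.isLocalHom_localRingHom q Q (algebraMap B B₁) hQB.symm
  haveI : Module.Flat B₁ (Localization.AtPrime Q) := IsLocalization.flat _ Q.primeCompl
  haveI : Module.Flat B (Localization.AtPrime Q) := Module.Flat.trans B B₁ _
  haveI : Module.Flat (Localization.AtPrime q) (Localization.AtPrime Q) :=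
    (Module.flat_iff_of_isLocalization (Localization.AtPrime q) q.primeCompl _).2 inferInstance
  haveI : Module.FaithfullyFlat (Localization.AtPrime q) (Localization.AtPrime Q) :=
    Module.FaithfullyFlat.of_flat_of_isLocalHom
  have hprim : ∀ R : PrimeSpectrum (Localization.AtPrime Q),
      maximalIdeal (Localization.AtPrime q) ≤ R.asIdeal.comap (algebraMap (Localization.AtPrime q) _) →
        maximalIdeal (Localization.AtPrime Q) ≤ R.asIdeal := fun R hR => by
    have h1 : q.map (algebraMap B B₁) ≤ R.asIdeal.comap (algebraMap B₁ (Localization.AtPrime Q)) := by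
      rw [Ideal.map_le_iff_le_comap, Ideal.comap_comap, ← IsScalarTower.algebraMap_eq,
        IsScalarTower.algebraMap_eq B (Localization.AtPrime q), ← Ideal.comap_comap, ← Ideal.map_le_iff_le_comap,
        Localization.AtPrime.map_eq_maximalIdeal]
      exact hR
    have h2 : R.asIdeal.comap (algebraMap B₁ (Localization.AtPrime Q)) ≤ Q := fun x hx => by
      by_contra hxQ
      exact R.isPrime.ne_top (Ideal.eq_top_of_isUnit_mem _ hx
        (IsLocalization.map_units _ (⟨x, hxQ⟩ : Q.primeCompl)))
    rw [← Localization.AtPrime.map_eq_maximalIdeal, Ideal.map_le_iff_le_comap]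
    exact hQ.2 ⟨Ideal.IsPrime.comap _, h1⟩ h2
  -- the closed fibre of `B_q → B̂_Q` is zero-dimensional
  obtain ⟨hdq, hkq⟩ := FlatDepth.ring_fibre_invariants (A := Localization.AtPrime q) (B := Localization.AtPrime Q)
  have hfib0 : ringKrullDim (EGA4.FibRing (Localization.AtPrime q) (Localization.AtPrime Q)) ≤ 0 := by
    have : Ring.KrullDimLE 0 (EGA4.FibRing (Localization.AtPrime q) (Localization.AtPrime Q)) := by
      rw [Ring.krullDimLE_zero_iff]
      intro J hJ
      haveI := hJ
      let R : PrimeSpectrum (Localization.AtPrime Q) := ⟨J.comap (Ideal.Quotient.mk _), Ideal.IsPrime.comap _⟩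
      have hc : R.asIdeal = maximalIdeal _ := le_antisymm (le_maximalIdeal R.isPrime.ne_top) (hprim R fun x hx => by
        show Ideal.Quotient.mk _ (algebraMap _ _ x) ∈ J
        rw [Ideal.Quotient.eq_zero_iff_mem.2 (Ideal.mem_map_of_mem _ hx)]
        exact J.zero_mem)
      rw [← Ideal.map_comap_of_surjective _ Ideal.Quotient.mk_surjective J]
      refine (Ideal.map_eq_top_or_isMaximal_of_surjective _ Ideal.Quotient.mk_surjective
        (show (J.comap (Ideal.Quotient.mk _)).IsMaximal from
          Eq.mpr (congrArg Ideal.IsMaximal hc) (maximalIdeal.isMaximal _))).resolve_left ?_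
      rw [Ideal.map_comap_of_surjective _ Ideal.Quotient.mk_surjective]
      exact hJ.ne_top
    exact Ring.krullDimLE_iff.1 this
  have hdeq : LocCoh.depth (Localization.AtPrime Q) (Localization.AtPrime Q) =
      LocCoh.depth (Localization.AtPrime q) (Localization.AtPrime q) := by
    have h0 := DepthLib.depth_le_supportDim (R := EGA4.FibRing (Localization.AtPrime q) (Localization.AtPrime Q))
      (M := EGA4.FibRing (Localization.AtPrime q) (Localization.AtPrime Q))
    rw [Module.supportDim_self_eq_ringKrullDim] at h0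
    rw [hdq, nonpos_iff_eq_zero.1 (WithBot.coe_le_coe.1 (h0.trans hfib0)), add_zero]
  obtain ⟨hdP, hkP⟩ := FlatDepth.ring_fibre_invariants (A := Localization.AtPrime P) (B := Localization.AtPrime Q)
  rcases le_or_gt (2 : WithBot ℕ∞) (ringKrullDim (Localization.AtPrime P)) with hP | hP
  · haveI : IsDomain (Localization.AtPrime P) :=
      IsLocalization.isDomain_localization P.primeCompl_le_nonZeroDivisors
    haveI : IsIntegrallyClosed (Localization.AtPrime P) :=
      isIntegrallyClosed_of_isLocalization _ P.primeCompl P.primeCompl_le_nonZeroDivisors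
    have h3 : (3 : ℕ∞) ≤ LocCoh.depth (Localization.AtPrime q) (Localization.AtPrime q) := by
      rw [← hdeq, hdP]
      exact (show (3 : ℕ∞) = 2 + 1 from rfl).le.trans
        (add_le_add (SerreCrit.two_le_depth_of_normal _ hP) (one_le_depth_of_regular hnf))
    exact ⟨ptm_localization hfs k' M hsep q hq h3, le_trans (by norm_num) h3⟩
  · haveI : IsDomain (Localization.AtPrime P) :=
      IsLocalization.isDomain_localization P.primeCompl_le_nonZeroDivisors
    haveI : IsIntegrallyClosed (Localization.AtPrime P) :=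
      isIntegrallyClosed_of_isLocalization _ P.primeCompl P.primeCompl_le_nonZeroDivisors
    have hP1 : ringKrullDim (Localization.AtPrime P) ≤ 1 := by
      have h0 : (0 : WithBot ℕ∞) ≤ ringKrullDim (Localization.AtPrime P) := ringKrullDim_nonneg_of_nontrivial
      obtain ⟨d, hd⟩ := WithBot.ne_bot_iff_exists.1 (ne_bot_of_le_ne_bot WithBot.coe_ne_bot h0)
      rw [← hd] at hP ⊢
      exact WithBot.coe_le_coe.2 (Order.le_of_lt_succ (by
        rw [Order.succ_eq_add_one]; exact WithBot.coe_lt_coe.1 hP))
    haveI := SerreCrit.isRegularLocalRing_of_normal _ hP1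
    haveI : IsRegularLocalRing
        (Localization.AtPrime Q ⧸ (maximalIdeal (Localization.AtPrime P)).map (algebraMap _ (Localization.AtPrime Q))) :=
      inferInstanceAs (IsRegularLocalRing (EGA4.FibRing (Localization.AtPrime P) (Localization.AtPrime Q)))
    haveI := AndreFS1.isRegularLocalRing_of_closedFibre (A := Localization.AtPrime P) (B := Localization.AtPrime Q)
    have hdimQ : (2 : WithBot ℕ∞) ≤ ringKrullDim (Localization.AtPrime Q) := by
      refine hdim.trans ?_
      rw [hkq]
      refine le_add_of_nonneg_right ?_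
      exact ringKrullDim_nonneg_of_nontrivial
    have h2Q := two_le_depth_of_regular hdimQ
    exact ⟨ptm_of_faithfullyFlat (A := Localization.AtPrime q) (S := Localization.AtPrime Q) hprim
      (ptm_of_regular _ hdimQ h2Q), hdeq ▸ h2Q⟩

end Groth.Agent.RamSam27
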