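import Groth.Agent.Lib.CIPic27.Transfer
import Groth.Agent.Lib.CIPic27.Restrict
import Mathlib.RingTheory.Localization.BaseChange

/-!
# Extending line bundles across a closed set with trivial local punctured Picard groups
-/

set_option autoImplicit false
set_option linter.style.haveILetI false

universe u

open IsLocalRing TensorProduct

namespace Groth.Agent.RamSam27

open Groth.Agent.CIPic27 Groth.Agent.LocCohLib

variable {R : Type u} [CommRing R]

theorem free1_of_linearEquiv {M N : Type u} [AddCommGroup M] [Module R M] [AddCommGroup N] [Module R N]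
    (e : M ≃ₗ[R] N) {p : PrimeSpectrum R} (h : Free1 R M p) : Free1 R N p := by
  obtain ⟨u, s, hs, h1, h2⟩ := h
  refine ⟨e u, s, hs, fun x => ?_, fun c hc => h2 c (e.injective (by rw [map_smul, hc, map_zero]))⟩
  obtain ⟨c, hc⟩ := h1 (e.symm x)
  exact ⟨c, by rw [← e.apply_symm_apply x, ← map_smul, hc, map_smul]⟩

variable [IsNoetherianRing R]

theorem free1_dual_at {M : Type u} [AddCommGroup M] [Module R M] [Module.Finite R M] {p : PrimeSpectrum R}
    (h : Free1 R M p) : Free1 R (D R M) p := by
  haveI : Module.Finite R (D R M) := CIPic27.finite_dual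
  obtain ⟨u, s, hs, h1, h2⟩ := h
  obtain ⟨ψ, hψ, hψ'⟩ := exists_func u s h1 h2
  refine free1_of_pointwise p ψ (fun φ => ⟨s * s, fun h' => (p.isPrime.mem_or_mem h').elim hs hs, φ u, ?_⟩)
    fun c hc => ⟨s * s, fun h' => (p.isPrime.mem_or_mem h').elim hs hs, ?_⟩
  · refine LinearMap.ext fun x => ?_
    rw [LinearMap.smul_apply, LinearMap.smul_apply, ← map_smul, ← hψ', map_smul, smul_eq_mul, smul_eq_mul, mul_comm]
  · rw [mul_comm, ← hψ]
    exact LinearMap.congr_fun hc u

theorem free1_of_tensor_equiv {P : Type u} [AddCommGroup P] [Module R P] [Module.Finite R P] (y : PrimeSpectrum R)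
    (e : (Localization.AtPrime y.asIdeal) ⊗[R] P ≃ₗ[Localization.AtPrime y.asIdeal] Localization.AtPrime y.asIdeal) :
    Free1 R P y := by
  let S := Localization.AtPrime y.asIdeal
  let ι : P →ₗ[R] S ⊗[R] P := TensorProduct.mk R S P 1
  haveI : IsLocalizedModule y.asIdeal.primeCompl ι :=
    (isLocalizedModule_iff_isBaseChange y.asIdeal.primeCompl S _).mpr (TensorProduct.isBaseChange _ _ _)
  obtain ⟨⟨u, s⟩, hs⟩ := IsLocalizedModule.surj y.asIdeal.primeCompl ι (e.symm 1)
  have hs' : ι u = algebraMap R S s • e.symm 1 := by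
    rw [← hs, algebraMap_smul, Submonoid.smul_def]
  refine free1_of_pointwise y u (fun x => ?_) fun c hc => ?_
  · obtain ⟨⟨c, t⟩, ht⟩ := IsLocalization.surj y.asIdeal.primeCompl (e (ι x))
    have hx : ι x = e (ι x) • e.symm 1 := by
      rw [← map_smul, smul_eq_mul, mul_one, e.symm_apply_apply]
    have h0 : ι (((s : R) * t) • x - c • u) = 0 := by
      rw [map_sub, map_smul, map_smul, hs', hx, ← algebraMap_smul S ((s : R) * t), ← algebraMap_smul S c,
        smul_smul, smul_smul, ← sub_smul, map_mul, mul_assoc,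
        show algebraMap R S (t : R) * e (ι x) = algebraMap R S c from (mul_comm _ _).trans ht, mul_comm,
        sub_self, zero_smul]
    obtain ⟨r, hr⟩ := (IsLocalizedModule.eq_zero_iff y.asIdeal.primeCompl ι).1 h0
    refine ⟨r * (s * t), fun h => ?_, r * c, ?_⟩
    · exact (y.isPrime.mem_or_mem h).elim r.2 (fun h => (y.isPrime.mem_or_mem h).elim s.2 t.2)
    · rw [Submonoid.smul_def, smul_sub, sub_eq_zero] at hr
      rw [mul_smul, hr, mul_smul]
  · have h0 : algebraMap R S (c * s) = 0 := by
      have h := congrArg (fun z => e (ι z)) hc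
      simp only [map_smul, map_zero] at h
      rw [← algebraMap_smul S c, hs', smul_smul, ← map_mul, map_smul, e.apply_symm_apply, smul_eq_mul, mul_one] at h
      exact h
    obtain ⟨r, hr⟩ := (IsLocalization.map_eq_zero_iff y.asIdeal.primeCompl S _).1 h0
    refine ⟨r * s, fun h => (y.isPrime.mem_or_mem h).elim r.2 s.2, ?_⟩
    rw [mul_assoc, mul_comm (s : R), hr]

variable [IsLocalRing R]

/-- A module free of rank one off `V(J)` maps to the ring isomorphically off `V(J)`, provided the local rings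
at the points of `V(J)` are parafactorial. -/
theorem exists_map_of_ptm (J : Ideal R) (M : Type u) [AddCommGroup M] [Module R M] [Module.Finite R M]
    (hM : ∀ p : PrimeSpectrum R, ¬ J ≤ p.asIdeal → Free1 R M p)
    (hJ : ∀ y : PrimeSpectrum R, J ≤ y.asIdeal →
      (2 : ℕ∞) ≤ LocCoh.depth (Localization.AtPrime y.asIdeal) (Localization.AtPrime y.asIdeal) ∧
        PTm (Localization.AtPrime y.asIdeal)) :
    ∃ φ : M →ₗ[R] R, ∀ p : PrimeSpectrum R, ¬ J ≤ p.asIdeal →
      ∃ (u : M) (s : R), s ∉ p.asIdeal ∧ φ u ∉ p.asIdeal ∧ ∀ x, ∃ c : R, s • x = c • u := by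
  haveI : Module.Finite R (D R M) := CIPic27.finite_dual
  have hall : ∀ y : PrimeSpectrum R, Free1 R (D R M) y := by
    suffices H : ∀ (h : ℕ∞) (y : PrimeSpectrum R), y.asIdeal.height = h → Free1 R (D R M) y from
      fun y => H _ y rfl
    intro h
    induction h using WellFoundedLT.induction with
    | ind h ih' =>
      intro y hyh
      have ih : ∀ z : PrimeSpectrum R, z < y → Free1 R (D R M) z := fun z hz =>
        ih' z.asIdeal.height (hyh ▸ (show z.asIdeal.height < y.asIdeal.height from Ideal.height_strict_mono_of_isPrime hz)) z rfl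
      by_cases hy : J ≤ y.asIdeal
      swap
      · exact free1_dual_at (hM y hy)
      obtain ⟨hd, hP⟩ := hJ y hy
      let S := Localization.AtPrime y.asIdeal
      haveI : IsNoetherianRing S := IsLocalization.isNoetherianRing y.asIdeal.primeCompl _ inferInstance
      let e₀ : S ⊗[R] D R M ≃ₗ[S] D S (S ⊗[R] M) :=
        (LinearEquiv.ofBijective _ (homComparison_bijective R S (N := M))).trans (LinearMap.liftBaseChangeEquiv S)
      have hfree : FreeOff S (D S (S ⊗[R] M)) := fun Q hQ => by
        refine free1_of_linearEquiv e₀ (free1_baseChange Q (ih _ ?_))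
        have hle : PrimeSpectrum.comap (algebraMap R S) Q ≤ y := by
          intro x hx
          by_contra hxy
          exact Q.isPrime.ne_top (Ideal.eq_top_of_isUnit_mem _ hx
            (IsLocalization.map_units _ (⟨x, hxy⟩ : y.asIdeal.primeCompl)))
        refine lt_of_le_of_ne hle fun h => hQ ?_
        rw [← Localization.AtPrime.map_eq_maximalIdeal, Ideal.map_le_iff_le_comap]
        exact h.ge
      haveI : Module.Finite S (D S (S ⊗[R] M)) := CIPic27.finite_dual
      obtain ⟨e₁⟩ := hP _ hfree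
      haveI : Module.Finite S (D S (D S (S ⊗[R] M))) := CIPic27.finite_dual
      let e₂ : D S (S ⊗[R] M) ≃ₗ[S] D S (D S (D S (S ⊗[R] M))) :=
        LinearEquiv.ofBijective (Module.Dual.eval S (D S (S ⊗[R] M)))
          (bijective_of_isoOff (good_dual hd) (good_dual hd) (isoOff_eval hfree))
      let e₃ : D S (D S (D S (S ⊗[R] M))) ≃ₗ[S] D S S := (LinearEquiv.dualMap e₁).symm
      exact free1_of_tensor_equiv y (e₀.trans (e₂.trans (e₃.trans (LinearMap.ringLmapEquivSelf S S S))))
  obtain ⟨ψ₀, s₀, hs₀, hgen, -⟩ := hall (IsLocalRing.closedPoint R)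
  refine ⟨ψ₀, fun p hp => ?_⟩
  obtain ⟨u, s, hs, h1, h2⟩ := hM p hp
  obtain ⟨ψ, hψ, -⟩ := exists_func u s h1 h2
  refine ⟨u, s, hs, fun hmem => ?_, h1⟩
  obtain ⟨c, hc⟩ := hgen ψ
  have hu : IsUnit s₀ := not_not.1 hs₀
  have h := LinearMap.congr_fun hc u
  rw [LinearMap.smul_apply, LinearMap.smul_apply, hψ, smul_eq_mul, smul_eq_mul] at h
  have hmem' : s₀ * (s * s) ∈ p.asIdeal := h ▸ Ideal.mul_mem_left _ _ hmem
  exact ((p.isPrime.mem_or_mem hmem').resolve_left fun h0 => p.isPrime.ne_top (Ideal.eq_top_of_isUnit_mem _ h0 hu))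
    |> fun h0 => (p.isPrime.mem_or_mem h0).elim hs hs

end Groth.Agent.RamSam27
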