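import Groth.Agent.Lib.RamSam27.Regular
import Groth.Agent.Lib.GRing6.IndEtale
import Groth.Agent.Lib.GRing6.Permanence
import Groth.Agent.Lib.Hens.Noetherian
import Groth.Agent.Lib.Hens.Fibre
import Groth.Agent.Lib.Hens.Transfer

/-!
# Geometric parafactoriality of formally smooth algebras
-/

set_option autoImplicit false
set_option linter.style.haveILetI false

universe u

open IsLocalRing TensorProduct

namespace Groth.Agent.RamSam27

open Groth.Agent.CIPic27 Groth.Agent.CplLocH7 Groth.Agent.Hens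

theorem isRegularHom_hsh (T : Type u) [CommRing T] [IsLocalRing T] [IsNoetherianRing T] :
    CAlg.IsRegularHom T (Hsh T) :=
  GRing6.isRegularHom_of_piFibres T (Hsh T) fun p _ => Hs.exists_fibre_equiv_pi (AlgEquiv.refl : Hsh T ≃ₐ[T] Hsh T) p

/-- Strict henselizations of a local homomorphism. -/
theorem exists_algHom_hsh (B T : Type u) [CommRing B] [IsLocalRing B] [CommRing T] [IsLocalRing T] [Algebra B T]
    [IsLocalHom (algebraMap B T)] [Algebra B (Hsh T)] [IsScalarTower B T (Hsh T)] :
    ∃ g : Hsh B →ₐ[B] Hsh T, IsLocalHom g.toRingHom := by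
  haveI : IsLocalHom (algebraMap B (Hsh T)) := ⟨fun b hb => by
    rw [IsScalarTower.algebraMap_apply B T (Hsh T)] at hb
    exact isUnit_of_map_unit (algebraMap B T) b (isUnit_of_map_unit (algebraMap T (Hsh T)) _ hb)⟩
  haveI : IsSepClosed (ResidueField (Hsh T)) :=
    IsSepClosure.sep_closed (ResidueField T) (self := Hensel.IsStrictHenselization.isSepClosure (R := T))
  letI : Algebra (ResidueField B) (ResidueField (Hsh T)) :=
    (ResidueField.map (algebraMap B (Hsh T))).toAlgebra
  let τ₀ : SeparableClosure (ResidueField B) →ₐ[ResidueField B] ResidueField (Hsh T) := IsSepClosed.lift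
  haveI : IsScalarTower B (ResidueField B) (ResidueField (Hsh T)) := .of_algebraMap_eq fun b =>
    (ResidueField.map_residue (algebraMap B (Hsh T)) b).symm
  obtain ⟨g, hg, -⟩ := Hs.existsUnique_lift (R := B) (Hsh T) (τ₀.restrictScalars B)
  refine ⟨g, ⟨fun x hx => (Hs.isUnit_iff x).2 fun h0 => ?_⟩⟩
  have h := hg x
  rw [h0, map_zero] at h
  exact (residue_ne_zero_iff_isUnit (g x)).2 hx h

/-- Triviality of the punctured Picard groups of a local ring and of its strict henselization, given a flat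
extension which is regular over some local ring with non-trivial fibre. -/
theorem ptm_and_hsh (A B T : Type u) [CommRing A] [IsLocalRing A] [IsNoetherianRing A] [CommRing B] [IsLocalRing B]
    [IsNoetherianRing B] [CommRing T] [IsLocalRing T] [IsNoetherianRing T] [Algebra A T] [Algebra B T]
    [IsLocalHom (algebraMap A T)] [IsLocalHom (algebraMap B T)] [Module.Flat B T]
    (hreg : CAlg.IsRegularHom A T) (hnf : ¬ IsField (EGA4.FibRing A T))
    (hprim : ∀ Q : PrimeSpectrum T, maximalIdeal B ≤ Q.asIdeal.comap (algebraMap B T) → maximalIdeal T ≤ Q.asIdeal)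
    (hd : (3 : ℕ∞) ≤ LocCoh.depth B B) :
    PTm B ∧ PTm (Hsh B) ∧ (2 : ℕ∞) ≤ LocCoh.depth (Hsh B) (Hsh B) := by
  haveI : Module.FaithfullyFlat B T := Module.FaithfullyFlat.of_flat_of_isLocalHom
  have hdT : (3 : ℕ∞) ≤ LocCoh.depth T T :=
    hd.trans (FEtEq25.depth_le_of_flat_local (algebraMap B T) (RingHom.flat_algebraMap_iff.2 inferInstance))
  refine ⟨ptm_of_faithfullyFlat (A := B) (S := T) hprim (ptm_of_regularHom hreg hnf hdT), ?_, ?_⟩
  swap
  · refine le_trans (by norm_num) (hd.trans
      (FEtEq25.depth_le_of_flat_local (algebraMap B (Hsh B)) (RingHom.flat_algebraMap_iff.2 inferInstance)))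
  let T' := Hsh T
  letI : Algebra A T' := ((algebraMap T T').comp (algebraMap A T)).toAlgebra
  haveI : IsScalarTower A T T' := .of_algebraMap_eq fun _ => rfl
  letI : Algebra B T' := ((algebraMap T T').comp (algebraMap B T)).toAlgebra
  haveI : IsScalarTower B T T' := .of_algebraMap_eq fun _ => rfl
  haveI : IsLocalHom (algebraMap A T') := RingHom.isLocalHom_comp _ _
  have hreg' : CAlg.IsRegularHom A T' := FlatDepth.isRegularHom_comp A T T' hreg (isRegularHom_hsh T)
  have hdT' : (3 : ℕ∞) ≤ LocCoh.depth T' T' :=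
    hdT.trans (FEtEq25.depth_le_of_flat_local (algebraMap T T') (RingHom.flat_algebraMap_iff.2 inferInstance))
  have hnf' : ¬ IsField (EGA4.FibRing A T') := fun hF => by
    haveI hmax : (EGA4.mB A T').IsMaximal := Ideal.Quotient.maximal_of_isField _ hF
    have h1 : EGA4.mB A T' = (maximalIdeal T).map (algebraMap T T') :=
      (eq_maximalIdeal hmax).trans Hs.map_maximalIdeal.symm
    have h2 : EGA4.mB A T' = (EGA4.mB A T).map (algebraMap T T') := by
      show (maximalIdeal A).map (algebraMap A T') = _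
      rw [IsScalarTower.algebraMap_eq A T T', ← Ideal.map_map]
    have h3 := congrArg (Ideal.comap (algebraMap T T')) (h2.symm.trans h1)
    rw [Ideal.comap_map_eq_self_of_faithfullyFlat, Ideal.comap_map_eq_self_of_faithfullyFlat] at h3
    exact hnf ((Ideal.Quotient.maximal_ideal_iff_isField_quotient _).1 (h3 ▸ maximalIdeal.isMaximal T))
  obtain ⟨g, hgloc⟩ := exists_algHom_hsh B T
  letI : Algebra (Hsh B) T' := g.toRingHom.toAlgebra
  haveI : IsScalarTower B (Hsh B) T' := .of_algebraMap_eq fun b => (g.commutes b).symm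
  haveI : IsLocalHom (algebraMap (Hsh B) T') := hgloc
  haveI : Module.Flat B T' := Module.Flat.trans B T T'
  haveI : Module.Flat (Hsh B) T' := Hs.flat_of_flat_base T'
  haveI : Module.FaithfullyFlat (Hsh B) T' := Module.FaithfullyFlat.of_flat_of_isLocalHom
  refine ptm_of_faithfullyFlat (A := Hsh B) (S := T') (fun Q hQ => ?_) (ptm_of_regularHom hreg' hnf' hdT')
  rw [← Hs.map_maximalIdeal, Ideal.map_le_iff_le_comap]
  refine hprim (PrimeSpectrum.comap (algebraMap T T') Q) fun b hb => ?_
  show algebraMap T T' (algebraMap B T b) ∈ Q.asIdeal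
  rw [← IsScalarTower.algebraMap_apply, IsScalarTower.algebraMap_apply B (Hsh B) T']
  exact hQ (map_nonunit (algebraMap B (Hsh B)) b hb)

/-- From `PTm` to the statements about parafactoriality. -/
theorem geomParafactorial_of_ptm {B : Type u} [CommRing B] [IsLocalRing B] [IsNoetherianRing B]
    (hd : (2 : ℕ∞) ≤ LocCoh.depth B B) (h : PTm B) (hh : PTm (Hsh B))
    (hdh : (2 : ℕ∞) ≤ LocCoh.depth (Hsh B) (Hsh B)) :
    ParaF.IsParafactorialLocalRing B ∧
      ∀ (S : Type u) [CommRing S] [IsLocalRing S] [Algebra B S] [IsLocalHom (algebraMap B S)],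
        Hensel.IsStrictHenselization B S → ParaF.IsParafactorialLocalRing S := by
  refine ⟨isParafactorial_of_depth hd (picTrivial_of_ptm h), fun S _ _ _ _ hS => ?_⟩
  obtain ⟨e⟩ := exists_strictHenselization_equiv B S
  haveI : IsNoetherianRing S := strictHenselization_isNoetherianRing B S
  refine isParafactorial_of_depth ?_ (picTrivial_of_ptm (ptm_of_ringEquiv e.toRingEquiv hh))
  exact hdh.trans (le_of_eq (by first | exact SMT.depth_eq_of_ringEquiv e.toRingEquiv | exact (SMT.depth_eq_of_ringEquiv e.toRingEquiv).symm))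

/-- Formal smoothness passes to completions. -/
theorem adicFS_cpl {A B : Type u} [CommRing A] [IsLocalRing A] [IsNoetherianRing A] [CommRing B] [IsLocalRing B]
    [IsNoetherianRing B] [Algebra A B] [IsLocalHom (algebraMap A B)] [Algebra (Cpl A) (Cpl B)]
    [IsScalarTower A (Cpl A) (Cpl B)] (hfs : EGA41.IsFormallySmoothAdic A (maximalIdeal A) B (maximalIdeal B)) :
    EGA41.IsFormallySmoothAdic (Cpl A) (maximalIdeal (Cpl A)) (Cpl B) (maximalIdeal (Cpl B)) := by
  intro C _ _ J hJ hC u hu
  obtain ⟨N, hN⟩ := hC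
  letI : Algebra A C := ((algebraMap (Cpl A) C).comp (algebraMap A (Cpl A))).toAlgebra
  haveI : IsScalarTower A (Cpl A) C := .of_algebraMap_eq fun _ => rfl
  have hfsA := (Groth.Agent.S2461.result (maximalIdeal A) (maximalIdeal B)).1 hfs
  rw [← maximalIdeal_cpl] at hfsA
  obtain ⟨v, hv⟩ := hfsA C J hJ ⟨N, by
    rw [IsScalarTower.algebraMap_eq A (Cpl A) C, ← Ideal.map_map, Ideal.map_pow, ← maximalIdeal_cpl]
    exact hN⟩ (u.restrictScalars A) hu
  refine ⟨{ v with commutes' := fun a => ?_ }, AlgHom.ext fun x => AlgHom.congr_fun hv x⟩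
  obtain ⟨a₀, ha⟩ := exists_sub_mem_pow N a
  have h1 : algebraMap (Cpl A) C (a - algebraMap A (Cpl A) a₀) = 0 :=
    (Submodule.mem_bot C).1 (hN.le (Ideal.mem_map_of_mem _ ha))
  have h2 : v (algebraMap (Cpl A) (Cpl B) (a - algebraMap A (Cpl A) a₀)) = 0 := by
    rw [maximalIdeal_cpl, ← Ideal.map_pow] at ha
    refine (Ideal.map_le_iff_le_comap (K := RingHom.ker (v.toRingHom.comp (algebraMap (Cpl A) (Cpl B))))).2
      (fun m hm => ?_) ha
    show v (algebraMap (Cpl A) (Cpl B) (algebraMap A (Cpl A) m)) = 0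
    rw [← IsScalarTower.algebraMap_apply, v.commutes]
    refine (Submodule.mem_bot C).1 (hN.le ?_)
    rw [IsScalarTower.algebraMap_apply A (Cpl A) C]
    refine Ideal.mem_map_of_mem _ ?_
    rw [maximalIdeal_cpl, ← Ideal.map_pow]
    exact Ideal.mem_map_of_mem _ hm
  show v (algebraMap (Cpl A) (Cpl B) a) = algebraMap (Cpl A) C a
  rw [map_sub, map_sub, sub_eq_zero] at h2
  rw [map_sub, sub_eq_zero] at h1
  rw [h2, h1, ← IsScalarTower.algebraMap_apply A (Cpl A) (Cpl B), v.commutes, ← IsScalarTower.algebraMap_apply A (Cpl A) C]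

/-- The situation over completions. -/
theorem exists_cplMap {A B : Type u} [CommRing A] [IsLocalRing A] [IsNoetherianRing A] [CommRing B] [IsLocalRing B]
    [IsNoetherianRing B] [Algebra A B] [IsLocalHom (algebraMap A B)]
    (hfs : EGA41.IsFormallySmoothAdic A (maximalIdeal A) B (maximalIdeal B)) :
    ∃ (_ : Algebra (Cpl A) (Cpl B)) (_ : IsLocalHom (algebraMap (Cpl A) (Cpl B))),
      CAlg.IsRegularHom (Cpl A) (Cpl B) ∧
      IsRegularLocalRing (EGA4.FibRing (Cpl A) (Cpl B)) ∧
      EGA4.mB (Cpl A) (Cpl B) = (EGA4.mB A B).map (algebraMap B (Cpl B)) := by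
  have hle : (maximalIdeal A).map (algebraMap A B) ≤ maximalIdeal B :=
    ((local_hom_TFAE (algebraMap A B)).out 0 2).1 ‹_›
  letI : Algebra (Cpl A) (Cpl B) := (FSch.complMap (maximalIdeal A) (maximalIdeal B) (algebraMap A B) hle).toAlgebra
  haveI : IsScalarTower A (Cpl A) (Cpl B) := .of_algebraMap_eq fun a => by
    rw [RingHom.algebraMap_toAlgebra, FormalH7.complMap_algebraMap, ← IsScalarTower.algebraMap_apply]
  haveI : IsAdicComplete (maximalIdeal (Cpl A)) (Cpl A) := by
    rw [maximalIdeal_cpl]; exact AdicCompletion.isAdicComplete_self _ (maximalIdeal A).fg_of_isNoetherianRing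
  haveI : IsAdicComplete (maximalIdeal (Cpl B)) (Cpl B) := by
    rw [maximalIdeal_cpl]; exact AdicCompletion.isAdicComplete_self _ (maximalIdeal B).fg_of_isNoetherianRing
  have hmap : EGA4.mB (Cpl A) (Cpl B) = (EGA4.mB A B).map (algebraMap B (Cpl B)) := by
    show (maximalIdeal (Cpl A)).map (algebraMap (Cpl A) (Cpl B)) = ((maximalIdeal A).map (algebraMap A B)).map _
    rw [maximalIdeal_cpl, Ideal.map_map, ← IsScalarTower.algebraMap_eq, Ideal.map_map, ← IsScalarTower.algebraMap_eq]
  haveI hloc : IsLocalHom (algebraMap (Cpl A) (Cpl B)) := ((local_hom_TFAE (algebraMap (Cpl A) (Cpl B))).out 0 2).2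
    (hmap.le.trans ((Ideal.map_mono hle).trans (maximalIdeal_cpl B).ge))
  have hfs₁ := adicFS_of_EGA41 (adicFS_cpl hfs)
  exact ⟨inferInstance, hloc, AndreFS1.isRegularHom_of_adicFS (Cpl A) (Cpl B) hfs₁, isRegularLocalRing_fibRing hfs₁, hmap⟩

/-- A formally smooth algebra of depth at least three whose closed fibre is not a field is geometrically
parafactorial. -/
theorem geomParafactorial_formallySmooth {A B : Type u} [CommRing A] [IsLocalRing A] [IsNoetherianRing A]
    [CommRing B] [IsLocalRing B] [IsNoetherianRing B] [Algebra A B] [IsLocalHom (algebraMap A B)]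
    (hfs : EGA41.IsFormallySmoothAdic A (maximalIdeal A) B (maximalIdeal B))
    (hnf : ¬ IsField (EGA4.FibRing A B)) (hd : (3 : ℕ∞) ≤ LocCoh.depth B B) :
    ParaF.IsParafactorialLocalRing B ∧
      ∀ (S : Type u) [CommRing S] [IsLocalRing S] [Algebra B S] [IsLocalHom (algebraMap B S)],
        Hensel.IsStrictHenselization B S → ParaF.IsParafactorialLocalRing S := by
  obtain ⟨_, _, hreg, -, hmap⟩ := exists_cplMap hfs
  haveI := faithfullyFlat_cpl B
  haveI : IsLocalHom (algebraMap B (Cpl B)) :=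
    ((local_hom_TFAE (algebraMap B (Cpl B))).out 0 2).2 (maximalIdeal_cpl B).ge
  have hnf' : ¬ IsField (EGA4.FibRing (Cpl A) (Cpl B)) := fun hF => hnf (by
    haveI : (EGA4.mB (Cpl A) (Cpl B)).IsMaximal := Ideal.Quotient.maximal_of_isField _ hF
    have h := congrArg (Ideal.comap (algebraMap B (Cpl B)))
      ((hmap.symm.trans (eq_maximalIdeal inferInstance)).trans (maximalIdeal_cpl B))
    rw [Ideal.comap_map_eq_self_of_faithfullyFlat, Ideal.comap_map_eq_self_of_faithfullyFlat] at h
    show IsField (B ⧸ EGA4.mB A B)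
    exact (Ideal.Quotient.maximal_ideal_iff_isField_quotient _).1 (h ▸ maximalIdeal.isMaximal B))
  obtain ⟨h1, h2, h3⟩ := ptm_and_hsh (Cpl A) B (Cpl B) hreg hnf'
    (fun Q hQ => by rw [maximalIdeal_cpl, Ideal.map_le_iff_le_comap]; exact hQ) hd
  exact geomParafactorial_of_ptm (le_trans (by norm_num) hd) h1 h2 h3

end Groth.Agent.RamSam27
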