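import Groth.Agent.Lib.RamSam27.Smooth
import Groth.Agent.S5769

/-!
# Parafactoriality of formally smooth algebras
-/

set_option autoImplicit false
set_option linter.style.haveILetI false

universe u

open TensorProduct IsLocalRing

namespace Groth.Agent.RamSam27

open Groth.Agent.CIPic27

theorem isMaximal_nilradical_tensor {k k' K : Type u} [Field k] [Field k'] [Field K] [Algebra k k'] [Algebra k K]
    [IsPurelyInseparable k k'] : (nilradical (k' ⊗[k] K)).IsMaximal := by
  haveI : Nontrivial (k' ⊗[k] K) :=
    (Algebra.TensorProduct.includeRight_injective (RingHom.injective (algebraMap k k')) :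
      Function.Injective (Algebra.TensorProduct.includeRight : K →ₐ[k] k' ⊗[k] K)).nontrivial
  obtain ⟨M, hM⟩ := Ideal.exists_maximal (k' ⊗[k] K)
  suffices nilradical (k' ⊗[k] K) = M from this ▸ hM
  refine le_antisymm (nilradical_le_prime M) fun x hx => ?_
  obtain ⟨n, hn, c, hc⟩ := IsPurelyInseparable.exists_pow_mem_range_tensorProduct (k := k) (K := k') (R := K)
    (Algebra.TensorProduct.comm k k' K x)
  have hc' : x ^ n = (1 : k') ⊗ₜ c := by
    apply (Algebra.TensorProduct.comm k k' K).injective
    rw [map_pow, ← hc, Algebra.TensorProduct.comm_tmul, Algebra.TensorProduct.algebraMap_apply]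
    rfl
  refine ⟨n, ?_⟩
  have hmem : (1 : k') ⊗ₜ[k] c ∈ M := hc' ▸ Ideal.pow_mem_of_mem _ hx n hn
  by_cases h0 : c = 0
  · rw [hc', h0, TensorProduct.tmul_zero]
    exact Submodule.zero_mem _
  · exact absurd (Ideal.eq_top_of_isUnit_mem _ hmem
      ((isUnit_iff_ne_zero.2 h0).map (Algebra.TensorProduct.includeRight : K →ₐ[k] k' ⊗[k] K))) hM.ne_top

theorem exists_prime_of_dim_lt {A B : Type u} [CommRing A] [CommRing B] [IsLocalRing A] [IsNoetherianRing A]
    [IsLocalRing B] [IsNoetherianRing B] [Algebra A B] [IsLocalHom (algebraMap A B)]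
    (hdim : ringKrullDim A < ringKrullDim B) :
    ∃ Q : PrimeSpectrum B, (maximalIdeal A).map (algebraMap A B) ≤ Q.asIdeal ∧ Q.asIdeal ≠ maximalIdeal B := by
  let I := (maximalIdeal A).map (algebraMap A B)
  by_contra! h
  have h0 : ringKrullDim (B ⧸ I) ≤ 0 := by
    have : Ring.KrullDimLE 0 (B ⧸ I) := by
      rw [Ring.krullDimLE_zero_iff]
      intro J hJ
      haveI := hJ
      have hc := h ⟨J.comap (Ideal.Quotient.mk I), Ideal.IsPrime.comap _⟩ fun x hx => by
        show Ideal.Quotient.mk I x ∈ J
        rw [Ideal.Quotient.eq_zero_iff_mem.2 hx]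
        exact J.zero_mem
      rw [← Ideal.map_comap_of_surjective _ Ideal.Quotient.mk_surjective J]
      refine (Ideal.map_eq_top_or_isMaximal_of_surjective _ Ideal.Quotient.mk_surjective
        (show (J.comap (Ideal.Quotient.mk I)).IsMaximal from (Eq.mpr (congrArg Ideal.IsMaximal hc) (maximalIdeal.isMaximal B)))).resolve_left ?_
      rw [Ideal.map_comap_of_surjective _ Ideal.Quotient.mk_surjective]
      exact hJ.ne_top
    exact Ring.krullDimLE_iff.1 this
  exact not_le.2 hdim ((Groth.Agent.S5769.result A B).trans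
    ((add_le_add le_rfl h0).trans_eq (add_zero _)))

/-- EGA IV 21.14.1, in Boutot's form. -/
theorem isParafactorial_formallySmooth {A B : Type u} [CommRing A] [CommRing B] [IsNoetherianRing A] [IsLocalRing A]
    [IsNoetherianRing B] [IsLocalRing B] [Algebra A B] [IsLocalHom (algebraMap A B)]
    (hfs : EGA41.IsFormallySmoothAdic A (maximalIdeal A) B (maximalIdeal B))
    (hdim : ringKrullDim A < ringKrullDim B) (hdepth : (3 : ℕ∞) ≤ LocCoh.depth B B)
    (k' : Type u) [Field k'] [Algebra (ResidueField A) k'] [Module.Finite (ResidueField A) k']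
    [IsPurelyInseparable (ResidueField A) k']
    (hsep : Algebra.IsGeometricallyReduced k'
      ((k' ⊗[ResidueField A] ResidueField B) ⧸ nilradical (k' ⊗[ResidueField A] ResidueField B))) :
    ParaF.IsParafactorialLocalRing B := by
  haveI := isMaximal_nilradical_tensor (k := ResidueField A) (k' := k') (K := ResidueField B)
  exact isParafactorial_of_depth (le_trans (by norm_num) hdepth)
    (picTrivial_of_ptm (ptm_formallySmooth hfs (exists_prime_of_dim_lt hdim) hdepth k' _ hsep))

end Groth.Agent.RamSam27
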