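import Groth.Agent.Lib.ParaPS27.Main
import Groth.Agent.Lib.SmoothCpl5.Basic
import Groth.Agent.Lib.RegLoc.UFD
import Groth.Agent.Lib.FEtEq25.DepthTwo

/-!
# Ramanujam–Samuel: power series over complete rings, trivial residue extension
-/

set_option autoImplicit false
set_option linter.style.haveILetI false

universe u

open TensorProduct IsLocalRing

namespace Groth.Agent.RamSam27

open Groth.Agent.CIPic27 Groth.Agent.ParaGr27

theorem ptm_of_regular (R : Type u) [CommRing R] [IsRegularLocalRing R] (hdim : (2 : WithBot ℕ∞) ≤ ringKrullDim R)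
    (hd : (2 : ℕ∞) ≤ LocCoh.depth R R) : PTm R := by
  haveI := RegLoc.isDomain R
  haveI := RegLoc.ufd_of_isRegularLocalRing R
  exact ptm_of_parafactorial hd (ParaF27.isParafactorialLocalRing_of_ufd R hdim)

variable {D : Type u} [CommRing D] [IsLocalRing D] [IsNoetherianRing D]

theorem depth_powerSeries : LocCoh.depth (PowerSeries D) (PowerSeries D) = LocCoh.depth D D + 1 := by
  have hXm : (PowerSeries.X : PowerSeries D) ∈ maximalIdeal (PowerSeries D) := by
    rw [mem_maximalIdeal, mem_nonunits_iff, PowerSeries.isUnit_iff_constantCoeff]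
    simp
  have hreg : IsSMulRegular (PowerSeries D) (PowerSeries.X : PowerSeries D) := fun x y h =>
    PowerSeries.X_mul_inj.1 h
  let q : PowerSeries D →+* D := PowerSeries.constantCoeff
  have hq : Function.Surjective q := fun x => ⟨PowerSeries.C x, by simp [q]⟩
  have hker : RingHom.ker q = Ideal.span {(PowerSeries.X : PowerSeries D)} := by
    ext x
    rw [RingHom.mem_ker, Ideal.mem_span_singleton, PowerSeries.X_dvd_iff]
  let e : (PowerSeries D ⧸ Ideal.span {(PowerSeries.X : PowerSeries D)}) ≃+* D :=
    (Ideal.quotEquivOfEq hker.symm).trans (RingHom.quotientKerEquivOfSurjective hq)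
  haveI : IsLocalRing (PowerSeries D ⧸ Ideal.span {(PowerSeries.X : PowerSeries D)}) := e.symm.isLocalRing
  rw [← GorenLib.depth_quotient_add_one hXm hreg, SMT.depth_eq_of_ringEquiv e]

/-- `D⟦X⟧` of depth three has trivial punctured Picard group. -/
theorem ptm_powerSeries_depth [IsAdicComplete (maximalIdeal D) D]
    (h : (3 : ℕ∞) ≤ LocCoh.depth (PowerSeries D) (PowerSeries D)) : PTm (PowerSeries D) := by
  refine ParaPS27.ptm_powerSeries ?_ (le_trans (by norm_num) h)
  rw [depth_powerSeries, show (3 : ℕ∞) = 2 + 1 from rfl] at h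
  exact (WithTop.add_le_add_iff_right ENat.one_ne_top).1 h

/-- A flat complete algebra with regular closed fibre of positive dimension and trivial residue extension. -/
theorem ptm_of_flat_rational {A R T : Type u} [CommRing A] [CommRing R] [CommRing T] [IsLocalRing A] [IsLocalRing R]
    [IsLocalRing T] [IsNoetherianRing A] [IsNoetherianRing R] [IsNoetherianRing T] [Algebra A R] [Algebra A T]
    [Algebra R T] [IsScalarTower A R T] [IsAdicComplete (maximalIdeal R) R] [IsAdicComplete (maximalIdeal T) T]
    [IsLocalHom (algebraMap R T)] [IsLocalHom (algebraMap A R)] [Module.Flat A T]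
    (hR : (maximalIdeal A).map (algebraMap A R) = maximalIdeal R)
    (hres : Function.Surjective (ResidueField.map (algebraMap R T)))
    [IsRegularLocalRing (T ⧸ (maximalIdeal R).map (algebraMap R T))]
    (hne : ∃ Q : PrimeSpectrum T, (maximalIdeal R).map (algebraMap R T) ≤ Q.asIdeal ∧ Q.asIdeal ≠ maximalIdeal T)
    (hd : (3 : ℕ∞) ≤ LocCoh.depth T T) : PTm T := by
  obtain ⟨n, ⟨e⟩⟩ := SmoothCpl5.exists_algEquiv (A := A) (R := R) (T := T) hR hres
  rcases n with _ | n
  · exfalso
    obtain ⟨Q, hQ, hQne⟩ := hne
    have hsurj : Function.Surjective (algebraMap R T) := fun t => by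
      obtain ⟨c, rfl⟩ := e.surjective t
      refine ⟨MvPowerSeries.constantCoeff c, ?_⟩
      rw [← e.commutes, MvPowerSeries.algebraMap_apply, Algebra.algebraMap_self, RingHom.id_apply]
      congr 1
      ext d
      obtain rfl : d = 0 := Subsingleton.elim _ _
      rw [← MvPowerSeries.coeff_zero_eq_constantCoeff_apply, MvPowerSeries.coeff_zero_C]
    exact hQne (le_antisymm (le_maximalIdeal Q.isPrime.ne_top)
      ((map_maximalIdeal_of_surjective (algebraMap R T) hsurj).ge.trans hQ))
  · let D := MvPowerSeries (Fin n) R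
    haveI : IsAdicComplete (maximalIdeal D) D := ArtFunLib.isAdicComplete_mvPowerSeries
    let e' : PowerSeries D ≃+* T := (MvPowerSeries.finSuccEquiv R n).symm.toRingEquiv.trans e.toRingEquiv
    refine ptm_of_ringEquiv e' (ptm_powerSeries_depth ?_)
    rw [← SMT.depth_eq_of_ringEquiv e']
    exact hd

end Groth.Agent.RamSam27
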