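import Groth.Agent.Lib.FlatDepth.GenericSmooth
import Groth.Agent.Lib.Sep.Basic

/-!
# Finitely generated extensions are separable after a finite extension
-/

set_option autoImplicit false
set_option linter.style.haveILetI false

universe u

open TensorProduct

namespace Groth.Agent.RamSam27

theorem exists_separable_finite (k K : Type u) [Field k] [Field K] [Algebra k K] [Algebra.EssFiniteType k K] :
    ∃ (k' : Type u) (_ : Field k') (_ : Algebra k k') (_ : Module.Finite k k') (M : Ideal (k' ⊗[k] K))
      (_ : M.IsMaximal), Algebra.IsGeometricallyReduced k' ((k' ⊗[k] K) ⧸ M) := by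
  obtain ⟨k', K', i1, i2, i3, i4, i5, i6, i7, i8, s, hfin, -, hind, hess, hfin', hsep⟩ :=
    FlatDepth.exists_purelyInseparable_sepGen k K
  haveI := hfin'
  haveI := hsep
  haveI := FlatDepth.formallySmooth_of_sepGen s hind
  haveI : Algebra.IsGeometricallyReduced k' K' := (Sep.formallySmooth_iff_isGeometricallyReduced k' K').1 ‹_›
  let μ : k' ⊗[k] K →ₐ[k'] K' :=
    Algebra.TensorProduct.lift (Algebra.ofId k' K') (IsScalarTower.toAlgHom k K K') fun _ _ => Commute.all _ _
  let P := RingHom.ker μ
  haveI : P.IsPrime := RingHom.ker_isPrime μ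
  letI : Algebra K (k' ⊗[k] K) := Algebra.TensorProduct.rightAlgebra
  haveI : Module.Finite K (k' ⊗[k] K) := Module.Finite.equiv (Algebra.TensorProduct.commRight k K k').toLinearEquiv
  haveI : Algebra.IsIntegral K (k' ⊗[k] K) := Algebra.IsIntegral.of_finite K _
  haveI : (P.comap (algebraMap K (k' ⊗[k] K))).IsMaximal := by
    haveI : (P.comap (algebraMap K (k' ⊗[k] K))).IsPrime := Ideal.IsPrime.comap _
    exact Ideal.IsPrime.isMaximal' inferInstance
  haveI hP : P.IsMaximal := Ideal.isMaximal_of_isIntegral_of_isMaximal_comap (R := K) P inferInstance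
  refine ⟨k', i1, i3, hfin, P, hP, ?_⟩
  exact Algebra.IsGeometricallyReduced.of_injective (Ideal.kerLiftAlg μ) (Ideal.kerLiftAlg_injective μ)

end Groth.Agent.RamSam27
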