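import Groth.Agent.Lib.RamSam27.Smooth

/-!
# Local rings of `D⟦X⟧` at primes containing a distinguished element
-/

set_option autoImplicit false
set_option linter.style.haveILetI false

universe u

open TensorProduct IsLocalRing

namespace Groth.Agent.RamSam27

open Groth.Agent.CIPic27

variable {D : Type u} [CommRing D] [IsLocalRing D] [IsNoetherianRing D] [IsAdicComplete (maximalIdeal D) D]

local notation "S" => PowerSeries D

omit [IsNoetherianRing D] [IsAdicComplete (maximalIdeal D) D] in
theorem distinguished_pow {f : Polynomial D} (hf : f.IsDistinguishedAt (maximalIdeal D)) :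
    ∀ N, (f ^ N).IsDistinguishedAt (maximalIdeal D)
  | 0 => by
    refine ⟨⟨fun {n} hn => ?_⟩, by simpa using Polynomial.monic_one⟩
    simp at hn
  | N + 1 => by rw [pow_succ]; exact (distinguished_pow hf N).mul hf

/-- Truncation: modulo a power of a distinguished polynomial, power series are polynomials. -/
theorem exists_lift_powerSeries {f : Polynomial D} (hf : f.IsDistinguishedAt (maximalIdeal D)) {C E : Type u}
    [CommRing C] [CommRing E] [Algebra D C] [Algebra D E] (π : C →ₐ[D] E) (w : PowerSeries D →ₐ[D] E) (c : C)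
    (hc : π c = w PowerSeries.X) (N : ℕ) (hC : (Polynomial.aeval c f) ^ N = 0) (hE : w (f : S) ^ N = 0) :
    ∃ v : PowerSeries D →ₐ[D] C, π.comp v = w := by
  let g := f ^ N
  let e := (distinguished_pow hf N).algEquivQuotient
  let v₀ : (Polynomial D ⧸ Ideal.span {g}) →ₐ[D] C := Ideal.Quotient.liftₐ _ (Polynomial.aeval c) fun a ha => by
    obtain ⟨b, rfl⟩ := Ideal.mem_span_singleton'.1 ha
    rw [map_mul, map_pow, hC, mul_zero]
  refine ⟨v₀.comp (e.symm.toAlgHom.comp (Ideal.Quotient.mkₐ D _)), AlgHom.ext fun x => ?_⟩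
  obtain ⟨P, hP⟩ := Ideal.Quotient.mk_surjective (e.symm (Ideal.Quotient.mk _ x))
  have h1 : π (v₀ (e.symm (Ideal.Quotient.mk _ x))) = w (P : S) := by
    rw [← hP]
    show π (Polynomial.aeval c P) = _
    rw [← Polynomial.aeval_algHom_apply, hc, Polynomial.aeval_algHom_apply, ParaPS27.aeval_X_eq]
  refine h1.trans ?_
  have h2 : Ideal.Quotient.mk (Ideal.span {((f ^ N : Polynomial D) : S)}) (P : S) = Ideal.Quotient.mk _ x := by
    rw [← e.apply_symm_apply (Ideal.Quotient.mk _ x), ← hP]
    show _ = Ideal.Quotient.mk _ (Polynomial.coeToPowerSeries.algHom D P)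
    rw [Polynomial.coeToPowerSeries.algHom_apply]
    simp
  obtain ⟨b, hb⟩ := Ideal.mem_span_singleton'.1 ((Ideal.Quotient.mk_eq_mk_iff_sub_mem _ _).1 h2)
  rw [← sub_eq_zero, ← map_sub, ← hb, map_mul, Polynomial.coe_pow, map_pow, hE, mul_zero]

theorem exists_distinguished_mem {q : Ideal S} {f : S} (hf : f ∈ q) (hf' : PowerSeries.map (residue D) f ≠ 0) :
    ∃ f₀ : Polynomial D, f₀.IsDistinguishedAt (maximalIdeal D) ∧ (f₀ : S) ∈ q := by
  obtain ⟨f₀, h, H⟩ := PowerSeries.exists_isWeierstrassFactorization hf'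
  exact ⟨f₀, H.isDistinguishedAt, (Ideal.mul_unit_mem_iff_mem _ H.isUnit).1 (H.eq_mul ▸ hf)⟩

theorem formallySmooth_powerSeries_atPrime (q : Ideal S) [q.IsPrime] {f : S} (hf : f ∈ q)
    (hf' : PowerSeries.map (residue D) f ≠ 0) (p : Ideal D) [p.IsPrime]
    [Algebra (Localization.AtPrime p) (Localization.AtPrime q)]
    [IsScalarTower D (Localization.AtPrime p) (Localization.AtPrime q)] :
    EGA41.IsFormallySmoothAdic (Localization.AtPrime p) (maximalIdeal (Localization.AtPrime p))
      (Localization.AtPrime q) (maximalIdeal (Localization.AtPrime q)) := by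
  obtain ⟨f₀, hd, hf₀⟩ := exists_distinguished_mem hf hf'
  intro C _ _ J hJ _ u hu
  obtain ⟨k, hk⟩ := hu
  obtain ⟨m, hm⟩ := hJ
  letI : Algebra D C := ((algebraMap (Localization.AtPrime p) C).comp (algebraMap D _)).toAlgebra
  haveI : IsScalarTower D (Localization.AtPrime p) C := .of_algebraMap_eq fun _ => rfl
  let w : S →ₐ[D] C ⧸ J := (u.restrictScalars D).comp (IsScalarTower.toAlgHom D S _)
  let π : C →ₐ[D] C ⧸ J := Ideal.Quotient.mkₐ D J
  obtain ⟨c, hc⟩ := Ideal.Quotient.mk_surjective (w PowerSeries.X)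
  have hwk : w (f₀ : S) ^ k = 0 := by
    rw [← map_pow]
    refine hk _ ?_
    rw [← Localization.AtPrime.map_eq_maximalIdeal, ← Ideal.map_pow]
    exact Ideal.mem_map_of_mem _ (Ideal.pow_mem_pow hf₀ k)
  have hπf : π (Polynomial.aeval c f₀) = w (f₀ : S) := by
    rw [← Polynomial.aeval_algHom_apply, show π c = w PowerSeries.X from hc, Polynomial.aeval_algHom_apply,
      ParaPS27.aeval_X_eq]
  have hmem : Polynomial.aeval c f₀ ^ k ∈ J := by
    rw [← Ideal.Quotient.eq_zero_iff_mem, map_pow]
    exact (congrArg (· ^ k) hπf).trans hwk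
  have hnil : Polynomial.aeval c f₀ ^ (k * m + k) = 0 := by
    have h := Ideal.pow_mem_pow hmem m
    rw [hm] at h
    rw [pow_add, pow_mul, h, zero_mul]
  obtain ⟨v, hv⟩ := exists_lift_powerSeries hd π w c hc (k * m + k) hnil (by rw [pow_add, hwk, mul_zero])
  have hunit : ∀ s : q.primeCompl, IsUnit (v s.1) := fun s => by
    have h1 : IsUnit (Ideal.Quotient.mk J (v s.1)) := by
      rw [show Ideal.Quotient.mk J (v s.1) = u (algebraMap S _ s.1) from AlgHom.congr_fun hv s.1]
      exact (IsLocalization.map_units (Localization.AtPrime q) s).map u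
    obtain ⟨c, hc⟩ := h1.exists_right_inv
    obtain ⟨c, rfl⟩ := Ideal.Quotient.mk_surjective c
    have h2 : v s.1 * c - 1 ∈ J := by
      rw [← Ideal.Quotient.eq_zero_iff_mem, map_sub, map_mul, hc, map_one, sub_self]
    have h3 : IsNilpotent (v s.1 * c - 1) := ⟨m, by
      have := Ideal.pow_mem_pow h2 m
      rwa [hm] at this⟩
    have h4 : IsUnit (1 + (v s.1 * c - 1)) := h3.isUnit_one_add
    rw [add_sub_cancel] at h4
    exact isUnit_of_mul_isUnit_left h4
  let V : Localization.AtPrime q →+* C := IsLocalization.lift (g := v.toRingHom) hunit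
  have hV : ∀ x, V (algebraMap S _ x) = v x := fun x => IsLocalization.lift_eq _ x
  have hVA : V.comp (algebraMap (Localization.AtPrime p) (Localization.AtPrime q)) = algebraMap _ C := by
    refine IsLocalization.ringHom_ext p.primeCompl (RingHom.ext fun x => ?_)
    show V (algebraMap _ (Localization.AtPrime q) (algebraMap D _ x)) = _
    rw [← IsScalarTower.algebraMap_apply, IsScalarTower.algebraMap_apply D S (Localization.AtPrime q), hV,
      v.commutes]
    rfl
  let V' : Localization.AtPrime q →ₐ[Localization.AtPrime p] C := { V with commutes' := RingHom.congr_fun hVA }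
  refine ⟨V', AlgHom.ext fun x => ?_⟩
  refine RingHom.congr_fun (IsLocalization.ringHom_ext q.primeCompl (j := (Ideal.Quotient.mk J).comp V)
    (k := u.toRingHom) (RingHom.ext fun y => ?_)) x
  show Ideal.Quotient.mk J (V (algebraMap S _ y)) = u (algebraMap S _ y)
  rw [hV]
  exact AlgHom.congr_fun hv y

theorem finite_residueField (q : Ideal S) [q.IsPrime] {f : S} (hf : f ∈ q)
    (hf' : PowerSeries.map (residue D) f ≠ 0) (p : Ideal D) [p.IsPrime]
    [Algebra (Localization.AtPrime p) (Localization.AtPrime q)]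
    [IsScalarTower D (Localization.AtPrime p) (Localization.AtPrime q)]
    [IsLocalHom (algebraMap (Localization.AtPrime p) (Localization.AtPrime q))] :
    Module.Finite (ResidueField (Localization.AtPrime p)) (ResidueField (Localization.AtPrime q)) := by
  obtain ⟨f₀, hd, hf₀⟩ := exists_distinguished_mem hf hf'
  let κp := ResidueField (Localization.AtPrime p)
  let κq := ResidueField (Localization.AtPrime q)
  let r : S →+* κq := (residue _).comp (algebraMap S _)
  have hr : ∀ d : D, r (algebraMap D S d) = algebraMap κp κq (residue _ (algebraMap D _ d)) := fun d => by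
    show residue _ (algebraMap S _ (algebraMap D S d)) = _
    rw [← IsScalarTower.algebraMap_apply, IsScalarTower.algebraMap_apply D (Localization.AtPrime p)
      (Localization.AtPrime q)]
    rfl
  have hrq : ∀ x ∈ q, r x = 0 := fun x hx =>
    (residue_eq_zero_iff _).2 ((IsLocalization.AtPrime.to_map_mem_maximal_iff _ q x).2 hx)
  let ξ := r PowerSeries.X
  let ι : D →+* κp := (residue (Localization.AtPrime p)).comp (algebraMap D _)
  have hrι : r.comp (algebraMap D S) = (algebraMap κp κq).comp ι := RingHom.ext hr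
  have hrpoly : ∀ P : Polynomial D, r (P : S) = Polynomial.aeval ξ (P.map ι) := fun P => by
    rw [← ParaPS27.aeval_X_eq, Polynomial.aeval_def, Polynomial.hom_eval₂, hrι, Polynomial.aeval_def,
      Polynomial.eval₂_map]
  have hξ : IsIntegral κp ξ := ⟨f₀.map ι, hd.monic.map ι, by
    rw [← Polynomial.aeval_def, ← hrpoly, hrq _ hf₀]⟩
  let L := Algebra.adjoin κp {ξ}
  have hL : ∀ x : S, r x ∈ L := fun x => by
    let e := hd.algEquivQuotient
    obtain ⟨P, hP⟩ := Ideal.Quotient.mk_surjective (e.symm (Ideal.Quotient.mk _ x))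
    have h2 : (P : S) - x ∈ Ideal.span {(f₀ : S)} := by
      rw [← Ideal.Quotient.mk_eq_mk_iff_sub_mem, ← e.apply_symm_apply (Ideal.Quotient.mk _ x), ← hP]
      show _ = Ideal.Quotient.mk _ (Polynomial.coeToPowerSeries.algHom D P)
      rw [Polynomial.coeToPowerSeries.algHom_apply]
      simp
    have h3 : r (P : S) - r x = 0 := by
      rw [← map_sub]
      exact hrq _ ((Ideal.span_singleton_le_iff_mem _).2 hf₀ h2)
    rw [← sub_eq_zero.1 h3, hrpoly]
    exact Polynomial.aeval_mem_adjoin_singleton κp ξ
  haveI : Module.Finite κp L :=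
    Module.Finite.iff_fg.2 hξ.fg_adjoin_singleton
  haveI : Algebra.IsAlgebraic κp L := Algebra.IsAlgebraic.of_finite κp L
  refine Module.Finite.of_surjective L.val.toLinearMap fun y => ?_
  obtain ⟨y, rfl⟩ := residue_surjective y
  obtain ⟨a, s, rfl⟩ := IsLocalization.exists_mk'_eq q.primeCompl y
  have hy : residue _ (IsLocalization.mk' (Localization.AtPrime q) a s) * r s.1 = r a := by
    show _ * residue _ (algebraMap S _ s.1) = residue _ (algebraMap S _ a)
    rw [← map_mul, IsLocalization.mk'_spec]
  have hs0 : r s.1 ≠ 0 := fun h =>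
    s.2 ((IsLocalization.AtPrime.to_map_mem_maximal_iff _ q s.1).1 ((residue_eq_zero_iff _).1 h))
  refine ⟨⟨_, ?_⟩, rfl⟩
  show residue _ (IsLocalization.mk' (Localization.AtPrime q) a s) ∈ L
  rw [← mul_div_cancel_right₀ (residue _ (IsLocalization.mk' (Localization.AtPrime q) a s)) hs0, hy, div_eq_mul_inv]
  refine mul_mem (hL a) ?_
  exact L.inv_mem_of_algebraic (x := ⟨r s.1, hL _⟩) ((Algebra.IsAlgebraic.isAlgebraic (⟨r s.1, hL _⟩ : L)).algHom L.val)

theorem exists_separable_model {k K : Type u} [Field k] [Field K] [Algebra k K] :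
    ∃ (M : Ideal (K ⊗[k] K)) (_ : M.IsMaximal), Algebra.IsGeometricallyReduced K ((K ⊗[k] K) ⧸ M) := by
  let μ : K ⊗[k] K →ₐ[K] K := Algebra.TensorProduct.lift (AlgHom.id K K) (AlgHom.id k K) fun _ _ => Commute.all _ _
  have hμ : Function.Surjective μ := fun x => ⟨x ⊗ₜ 1, by simp [μ]⟩
  haveI : (RingHom.ker μ).IsMaximal := RingHom.ker_isMaximal_of_surjective μ hμ
  haveI : Algebra.IsGeometricallyReduced K K := by
    rw [Algebra.isGeometricallyReduced_field_iff]
    exact isReduced_of_injective (Algebra.TensorProduct.rid K K (AlgebraicClosure K)).toRingHom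
      (Algebra.TensorProduct.rid K K (AlgebraicClosure K)).injective
  refine ⟨RingHom.ker μ, inferInstance, ?_⟩
  let e := Ideal.quotientKerAlgEquivOfSurjective hμ
  exact Algebra.IsGeometricallyReduced.of_injective e.toAlgHom e.injective

/-- The local ring of `D⟦X⟧` at a prime containing a distinguished element. -/
theorem ptm_atPrime_powerSeries (q : Ideal S) [q.IsPrime] {f : S} (hf : f ∈ q)
    (hf' : PowerSeries.map (residue D) f ≠ 0)
    (hd : (3 : ℕ∞) ≤ LocCoh.depth (Localization.AtPrime q) (Localization.AtPrime q)) :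
    PTm (Localization.AtPrime q) := by
  let p := q.comap (algebraMap D S)
  letI : Algebra (Localization.AtPrime p) (Localization.AtPrime q) :=
    (Localization.localRingHom p q (algebraMap D S) rfl).toAlgebra
  haveI : IsScalarTower D (Localization.AtPrime p) (Localization.AtPrime q) := .of_algebraMap_eq fun x => by
    rw [IsScalarTower.algebraMap_apply D S (Localization.AtPrime q)]
    exact (Localization.localRingHom_to_map p q (algebraMap D S) rfl x).symm
  haveI : IsLocalHom (algebraMap (Localization.AtPrime p) (Localization.AtPrime q)) :=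
    Localization.isLocalHom_localRingHom p q (algebraMap D S) rfl
  haveI : IsNoetherianRing (Localization.AtPrime p) := IsLocalization.isNoetherianRing p.primeCompl _ inferInstance
  haveI : IsNoetherianRing (Localization.AtPrime q) := IsLocalization.isNoetherianRing q.primeCompl _ inferInstance
  haveI := finite_residueField q hf hf' p
  obtain ⟨M, hM, hsep⟩ := exists_separable_model (k := ResidueField (Localization.AtPrime p))
    (K := ResidueField (Localization.AtPrime q))
  haveI := hM
  refine ptm_formallySmooth (formallySmooth_powerSeries_atPrime q hf hf' p) ?_ hd _ M hsep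
  -- the prime `pD⟦X⟧`
  let π := PowerSeries.map (Ideal.Quotient.mk p)
  let P₁ := RingHom.ker π
  haveI : IsDomain (D ⧸ p) := Ideal.Quotient.isDomain p
  haveI hP₁ : P₁.IsPrime := RingHom.ker_isPrime π
  have hle : P₁ ≤ q := fun x hx => by
    refine (Ideal.map_le_iff_le_comap.2 le_rfl) (ParaPS27.mem_map_C (J := p) (IsNoetherian.noetherian _) fun d => ?_)
    rw [← Ideal.Quotient.eq_zero_iff_mem, ← PowerSeries.coeff_map, show PowerSeries.map _ x = 0 from hx, map_zero]
  have hfP : f ∉ P₁ := fun h => hf' (PowerSeries.ext fun d => by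
    have h' := congrArg (PowerSeries.coeff d) (RingHom.mem_ker.1 h)
    rw [PowerSeries.coeff_map, map_zero, Ideal.Quotient.eq_zero_iff_mem] at h'
    rw [PowerSeries.coeff_map, map_zero, residue_eq_zero_iff]
    exact le_maximalIdeal (Ideal.IsPrime.comap _).ne_top h')
  haveI hQ : (P₁.map (algebraMap S (Localization.AtPrime q))).IsPrime :=
    IsLocalization.isPrime_of_isPrime_disjoint q.primeCompl _ _ hP₁
      (Set.disjoint_left.2 fun x hx hx' => hx (hle hx'))
  refine ⟨⟨_, hQ⟩, ?_, fun h => hfP ?_⟩
  · rw [← Localization.AtPrime.map_eq_maximalIdeal, Ideal.map_map, ← IsScalarTower.algebraMap_eq,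
      IsScalarTower.algebraMap_eq D S (Localization.AtPrime q), ← Ideal.map_map]
    refine Ideal.map_mono (Ideal.map_le_iff_le_comap.2 fun d hd => ?_)
    show π (algebraMap D S d) = 0
    rw [show algebraMap D S d = PowerSeries.C d from rfl]
    show PowerSeries.map _ (PowerSeries.C d) = 0
    rw [PowerSeries.map_C, Ideal.Quotient.eq_zero_iff_mem.2 hd, map_zero]
  · have h2 : algebraMap S (Localization.AtPrime q) f ∈ P₁.map (algebraMap S (Localization.AtPrime q)) := by
      show algebraMap S (Localization.AtPrime q) f ∈ (⟨_, hQ⟩ : PrimeSpectrum _).asIdeal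
      rw [h]
      exact (IsLocalization.AtPrime.to_map_mem_maximal_iff _ q f).2 hf
    obtain ⟨s, hs, hsf⟩ := (IsLocalization.algebraMap_mem_map_algebraMap_iff q.primeCompl _ _ f).1 h2
    exact (hP₁.mem_or_mem hsf).resolve_left fun hs' => hs (hle hs')

end Groth.Agent.RamSam27
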