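import Groth.Agent.Lib.RamSam27.Params
import Groth.Agent.Lib.RamSam27.Local
import Groth.Agent.Lib.RamSam27.Apply

/-!
# Localizations of formally smooth algebras
-/

set_option autoImplicit false
set_option linter.style.haveILetI false

universe u

open TensorProduct IsLocalRing

namespace Groth.Agent.RamSam27

open Groth.Agent.CIPic27

theorem comap_eq_of_mem_minimalPrimes {B T : Type u} [CommRing B] [CommRing T] [Algebra B T] [Module.Flat B T]
    (q : Ideal B) [hq : q.IsPrime] {Q : Ideal T} (hQ : Q ∈ (q.map (algebraMap B T)).minimalPrimes) :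
    Q.comap (algebraMap B T) = q := by
  haveI := hQ.1.1
  have hle : q ≤ Q.comap (algebraMap B T) := Ideal.map_le_iff_le_comap.1 hQ.1.2
  haveI : Q.LiesOver (Q.comap (algebraMap B T)) := ⟨rfl⟩
  obtain ⟨P, hPQ, hP, hPo⟩ := Q.exists_ideal_le_liesOver_of_le (p := q) (q := Q.comap (algebraMap B T)) hle
  have hmap : q.map (algebraMap B T) ≤ P := Ideal.map_le_iff_le_comap.2 hPo.over.le
  rw [le_antisymm (hQ.2 ⟨hP, hmap⟩ hPQ) hPQ]
  exact hPo.over.symm

/-- The local ring at a prime not in `mB` is dominated by a local ring of `D⟦X⟧`. -/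
theorem ptm_localization {A B : Type u} [CommRing A] [IsLocalRing A] [IsNoetherianRing A] [CommRing B]
    [IsLocalRing B] [IsNoetherianRing B] [Algebra A B] [IsLocalHom (algebraMap A B)]
    (hfs : EGA41.IsFormallySmoothAdic A (maximalIdeal A) B (maximalIdeal B))
    (k' : Type u) [Field k'] [Algebra (ResidueField A) k'] [Module.Finite (ResidueField A) k']
    (M : Ideal (k' ⊗[ResidueField A] ResidueField B)) [M.IsMaximal]
    (hsep : Algebra.IsGeometricallyReduced k' ((k' ⊗[ResidueField A] ResidueField B) ⧸ M))
    (q : Ideal B) [q.IsPrime] (hq : ¬ q ≤ (maximalIdeal A).map (algebraMap A B))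
    (hd : (3 : ℕ∞) ≤ LocCoh.depth (Localization.AtPrime q) (Localization.AtPrime q)) :
    PTm (Localization.AtPrime q) := by
  obtain ⟨A', _, _, _, T, _, _, _, _, _, hc, hff, hloc, -, hmap, ⟨P⟩⟩ := exists_model hfs k' M hsep
  haveI := hc
  haveI := hff
  haveI := hloc
  letI := P.ringR
  letI := P.algR
  letI := P.algT
  haveI := P.localR
  haveI := P.noethR
  haveI := P.tower
  haveI := P.completeR
  haveI := P.localHomR
  haveI := P.localHomT
  haveI := P.flat
  haveI := P.regular
  obtain ⟨f₀, hf₀, hf₀'⟩ := SetLike.not_le_iff_exists.1 hq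
  have hfm : algebraMap B T f₀ ∈ maximalIdeal T := map_nonunit _ _ (le_maximalIdeal ‹q.IsPrime›.ne_top hf₀)
  have hfJ : algebraMap B T f₀ ∉ (maximalIdeal P.R).map (algebraMap P.R T) := by
    rw [P.map_eq, hmap]
    intro h
    exact hf₀' (((maximalIdeal A).map (algebraMap A B)).comap_map_eq_self_of_faithfullyFlat (B := T) ▸
      (Ideal.mem_comap.2 h))
  obtain ⟨n, e, he⟩ := exists_coords (A := A') (R := P.R) (T := T) P.map_max P.res hfm hfJ
  have hne : q.map (algebraMap B T) ≠ ⊤ := fun h =>
    ‹q.IsPrime›.ne_top (by
      have := q.comap_map_eq_self_of_faithfullyFlat (B := T)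
      rwa [h, Ideal.comap_top, eq_comm] at this)
  obtain ⟨Q, hQ⟩ := Ideal.nonempty_minimalPrimes hne
  haveI := hQ.1.1
  have hQB := comap_eq_of_mem_minimalPrimes q hQ
  let D := MvPowerSeries (Fin n) P.R
  haveI : IsAdicComplete (maximalIdeal D) D := ArtFunLib.isAdicComplete_mvPowerSeries
  let q' : Ideal (PowerSeries D) := Q.comap e.toRingHom
  haveI : q'.IsPrime := Ideal.IsPrime.comap _
  let g := Localization.localRingHom q Q (algebraMap B T) hQB.symm
  letI : Algebra (Localization.AtPrime q) (Localization.AtPrime Q) := g.toAlgebra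
  haveI : IsScalarTower B (Localization.AtPrime q) (Localization.AtPrime Q) := .of_algebraMap_eq fun x => by
    rw [IsScalarTower.algebraMap_apply B T (Localization.AtPrime Q)]
    exact (Localization.localRingHom_to_map q Q (algebraMap B T) hQB.symm x).symm
  haveI : IsLocalHom (algebraMap (Localization.AtPrime q) (Localization.AtPrime Q)) :=
    Localization.isLocalHom_localRingHom q Q (algebraMap B T) hQB.symm
  haveI : Module.Flat T (Localization.AtPrime Q) := IsLocalization.flat _ Q.primeCompl
  haveI : Module.Flat B (Localization.AtPrime Q) := Module.Flat.trans B T _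
  haveI : Module.Flat (Localization.AtPrime q) (Localization.AtPrime Q) :=
    (Module.flat_iff_of_isLocalization (Localization.AtPrime q) q.primeCompl _).2 inferInstance
  haveI : Module.FaithfullyFlat (Localization.AtPrime q) (Localization.AtPrime Q) :=
    Module.FaithfullyFlat.of_flat_of_isLocalHom
  haveI : IsNoetherianRing (Localization.AtPrime Q) := IsLocalization.isNoetherianRing Q.primeCompl _ inferInstance
  haveI : IsNoetherianRing (Localization.AtPrime q) := IsLocalization.isNoetherianRing q.primeCompl _ inferInstance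
  have heq : (q'.primeCompl).map e.toRingHom.toMonoidHom = Q.primeCompl := by
    ext x
    constructor
    · rintro ⟨y, hy, rfl⟩
      exact hy
    · intro hx
      refine ⟨e.symm x, ?_, e.apply_symm_apply x⟩
      show ¬ e.toRingHom (e.symm x) ∈ Q
      rwa [show e.toRingHom (e.symm x) = x from e.apply_symm_apply x]
  let E : Localization.AtPrime q' ≃+* Localization.AtPrime Q :=
    IsLocalization.ringEquivOfRingEquiv _ _ e heq
  haveI : IsNoetherianRing (Localization.AtPrime q') := IsLocalization.isNoetherianRing q'.primeCompl _ inferInstance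
  refine ptm_of_faithfullyFlat (A := Localization.AtPrime q) (S := Localization.AtPrime Q) (fun R hR => ?_)
    (ptm_of_ringEquiv E (ptm_atPrime_powerSeries q' (f := e.symm (algebraMap B T f₀)) ?_ he ?_))
  · have h1 : q.map (algebraMap B T) ≤ R.asIdeal.comap (algebraMap T (Localization.AtPrime Q)) := by
      rw [Ideal.map_le_iff_le_comap, Ideal.comap_comap, ← IsScalarTower.algebraMap_eq,
        IsScalarTower.algebraMap_eq B (Localization.AtPrime q), ← Ideal.comap_comap, ← Ideal.map_le_iff_le_comap,
        Localization.AtPrime.map_eq_maximalIdeal]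
      exact hR
    have h2 : R.asIdeal.comap (algebraMap T (Localization.AtPrime Q)) ≤ Q := fun x hx => by
      by_contra hxQ
      exact R.isPrime.ne_top (Ideal.eq_top_of_isUnit_mem _ hx
        (IsLocalization.map_units _ (⟨x, hxQ⟩ : Q.primeCompl)))
    rw [← Localization.AtPrime.map_eq_maximalIdeal, Ideal.map_le_iff_le_comap]
    exact hQ.2 ⟨Ideal.IsPrime.comap _, h1⟩ h2
  · show e.toRingHom (e.symm (algebraMap B T f₀)) ∈ Q
    rw [show e.toRingHom (e.symm (algebraMap B T f₀)) = algebraMap B T f₀ from e.apply_symm_apply _,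
      ← Ideal.mem_comap, hQB]
    exact hf₀
  · rw [← SMT.depth_eq_of_ringEquiv E]
    exact hd.trans (FEtEq25.depth_le_of_flat_local _ (RingHom.flat_algebraMap_iff.2 inferInstance))

theorem isParafactorial_localization {A B : Type u} [CommRing A] [IsLocalRing A] [IsNoetherianRing A] [CommRing B]
    [IsLocalRing B] [IsNoetherianRing B] [Algebra A B] [IsLocalHom (algebraMap A B)]
    (hfs : EGA41.IsFormallySmoothAdic A (maximalIdeal A) B (maximalIdeal B))
    (k' : Type u) [Field k'] [Algebra (ResidueField A) k'] [Module.Finite (ResidueField A) k']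
    [IsPurelyInseparable (ResidueField A) k']
    (hsep : Algebra.IsGeometricallyReduced k'
      ((k' ⊗[ResidueField A] ResidueField B) ⧸ nilradical (k' ⊗[ResidueField A] ResidueField B)))
    (q : Ideal B) [q.IsPrime] (hq : ¬ q ≤ (maximalIdeal A).map (algebraMap A B))
    (hd : (3 : ℕ∞) ≤ LocCoh.depth (Localization.AtPrime q) (Localization.AtPrime q)) :
    ParaF.IsParafactorialLocalRing (Localization.AtPrime q) := by
  haveI := isMaximal_nilradical_tensor (k := ResidueField A) (k' := k') (K := ResidueField B)
  haveI : IsNoetherianRing (Localization.AtPrime q) := IsLocalization.isNoetherianRing q.primeCompl _ inferInstance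
  exact isParafactorial_of_depth (le_trans (by norm_num) hd)
    (picTrivial_of_ptm (ptm_localization hfs k' _ hsep q hq hd))

end Groth.Agent.RamSam27
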