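import Groth.Agent.Lib.SmoothCpl5.Basic
import Groth.Agent.Lib.ParaPS27.Main
import Mathlib.RingTheory.MvPowerSeries.Equiv

/-!
# Coordinates in which a given element becomes distinguished
-/

set_option autoImplicit false
set_option linter.style.haveILetI false

universe u

open IsLocalRing

namespace Groth.Agent.RamSam27

theorem exists_params_avoiding : ∀ (n : ℕ) (F : Type u) [CommRing F] [IsRegularLocalRing F],
    (maximalIdeal F).spanFinrank = n + 1 → ∀ f : F, f ≠ 0 →
      ∃ x : Fin (n + 1) → F, Ideal.span (Set.range x) = maximalIdeal F ∧ f ∉ Ideal.span (Set.range (x ∘ Fin.succ)) := by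
  intro n
  induction n with
  | zero =>
    intro F _ _ hn f hf
    obtain ⟨b, hb⟩ := CohenAlg3.exists_fin_gens (R := F)
    refine ⟨b ∘ Fin.cast hn.symm, ?_, by simpa using hf⟩
    rw [Set.range_comp, show Set.range (Fin.cast hn.symm) = Set.univ from (finCongr hn.symm).surjective.range_eq,
      Set.image_univ, hb]
  | succ n ih =>
    intro F _ _ hn f hf
    classical
    haveI := RegLoc.isDomain F
    have hfin := Ideal.finite_minimalPrimes_of_isNoetherianRing F (Ideal.span {f})
    obtain ⟨y, hym, hy2, hyP⟩ : ∃ y ∈ maximalIdeal F, y ∉ maximalIdeal F ^ 2 ∧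
        ∀ p ∈ (Ideal.span {f}).minimalPrimes, y ∉ p := by
      by_contra hc
      push Not at hc
      have hsub : (maximalIdeal F : Set F) ⊆
          ⋃ i ∈ (↑(insert (maximalIdeal F ^ 2) hfin.toFinset) : Set (Ideal F)), (i : Set F) := by
        intro x hx
        simp only [Set.mem_iUnion, Finset.coe_insert, Set.mem_insert_iff, SetLike.mem_coe, exists_prop]
        by_cases h2 : x ∈ maximalIdeal F ^ 2
        · exact ⟨_, Or.inl rfl, h2⟩
        · obtain ⟨p, hp, hxp⟩ := hc x hx h2
          exact ⟨p, Or.inr (by simpa using hp), hxp⟩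
      obtain ⟨i, hi, hle⟩ := (Ideal.subset_union_prime (maximalIdeal F ^ 2) (maximalIdeal F ^ 2)
        (fun i hi hne _ => by
          have : i ∈ (Ideal.span {f}).minimalPrimes := by simpa using (Finset.mem_insert.1 hi).resolve_left hne
          exact this.1.1)).1 hsub
      rcases Finset.mem_insert.1 hi with rfl | hi
      · have h0 : maximalIdeal F = ⊥ := Submodule.eq_bot_of_le_smul_of_le_jacobson_bot (maximalIdeal F) _
          (IsNoetherian.noetherian _) (by rw [smul_eq_mul, ← pow_two]; exact hle) (maximalIdeal_le_jacobson _)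
        rw [h0] at hn
        simp at hn
      · have hi' : i ∈ (Ideal.span {f}).minimalPrimes := by simpa using hi
        haveI := hi'.1.1
        have hm : maximalIdeal F = i := le_antisymm hle (le_maximalIdeal hi'.1.1.ne_top)
        have h1 := Ideal.height_le_one_of_isPrincipal_of_mem_minimalPrimes (Ideal.span {f}) i hi'
        have h2 := IsRegularLocalRing.spanFinrank_maximalIdeal (R := F)
        rw [hn, ← maximalIdeal_height_eq_ringKrullDim, hm] at h2
        have h3 : ((n + 1 + 1 : ℕ) : ℕ∞) ≤ ((1 : ℕ) : ℕ∞) := (WithBot.coe_inj.1 h2).le.trans h1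
        have h4 : n + 1 + 1 ≤ 1 := by exact_mod_cast h3
        omega
    obtain ⟨_, hG⟩ := RegLoc.quotient_span_singleton hym hy2
    let G := F ⧸ Ideal.span {y}
    have hfy : Ideal.Quotient.mk (Ideal.span {y}) f ≠ 0 := by
      rw [Ne, Ideal.Quotient.eq_zero_iff_mem]
      intro hfy
      haveI hyp : (Ideal.span {y}).IsPrime := (Ideal.Quotient.isDomain_iff_prime _).1 (RegLoc.isDomain G)
      obtain ⟨p, hp, hple⟩ := Ideal.exists_minimalPrimes_le ((Ideal.span_singleton_le_iff_mem _).2 hfy)
      haveI := hp.1.1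
      have hmul : p ≤ maximalIdeal F • p := fun z hz => by
        obtain ⟨c, rfl⟩ := Ideal.mem_span_singleton'.1 (hple hz)
        rw [mul_comm, smul_eq_mul]
        exact Ideal.mul_mem_mul hym ((Ideal.IsPrime.mem_or_mem inferInstance hz).resolve_right (hyP p hp))
      have hp0 := Submodule.eq_bot_of_le_smul_of_le_jacobson_bot (maximalIdeal F) p
        (IsNoetherian.noetherian _) hmul (maximalIdeal_le_jacobson _)
      exact hf ((Submodule.mem_bot F).1 (hp0.le (hp.1.2 (Ideal.mem_span_singleton_self f))))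
    obtain ⟨x', hx', hfx'⟩ := ih G (show (maximalIdeal (F ⧸ Ideal.span {y})).spanFinrank = n + 1 by omega) _ hfy
    choose x hx using fun i => Ideal.Quotient.mk_surjective (x' i)
    have himg : (Ideal.span (Set.range x)).map (Ideal.Quotient.mk (Ideal.span {y})) = Ideal.span (Set.range x') := by
      rw [Ideal.map_span, ← Set.range_comp]
      exact congrArg (fun g => Ideal.span (Set.range g)) (funext hx)
    refine ⟨Fin.snoc x y, ?_, fun hmem => hfx' ?_⟩
    · have hmax : maximalIdeal G = (maximalIdeal F).map (Ideal.Quotient.mk (Ideal.span {y})) :=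
        (map_maximalIdeal_of_surjective _ Ideal.Quotient.mk_surjective).symm
      rw [Fin.range_snoc, Ideal.span_insert, sup_comm]
      have h := congrArg (Ideal.comap (Ideal.Quotient.mk (Ideal.span {y}))) (himg.trans (hx'.trans hmax))
      rw [Ideal.comap_map_of_surjective _ Ideal.Quotient.mk_surjective,
        Ideal.comap_map_of_surjective _ Ideal.Quotient.mk_surjective, ← RingHom.ker_eq_comap_bot, Ideal.mk_ker] at h
      exact h.trans (sup_eq_left.2 ((Ideal.span_singleton_le_iff_mem _).2 hym))
    · have h := Ideal.mem_map_of_mem (Ideal.Quotient.mk (Ideal.span {y})) hmem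
      rw [Ideal.map_span] at h
      refine Ideal.span_le.2 ?_ h
      rintro _ ⟨_, ⟨i, rfl⟩, rfl⟩
      rw [Function.comp_apply]
      induction i using Fin.lastCases with
      | last =>
        rw [Fin.succ_last, Fin.snoc_last, Ideal.Quotient.eq_zero_iff_mem.2 (Ideal.mem_span_singleton_self y)]
        exact Submodule.zero_mem _
      | cast i =>
        rw [Fin.succ_castSucc, Fin.snoc_castSucc, hx]
        exact Ideal.subset_span ⟨i, rfl⟩

variable {A R T : Type u} [CommRing A] [CommRing R] [CommRing T] [IsLocalRing A] [IsLocalRing R] [IsLocalRing T]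
  [IsNoetherianRing A] [IsNoetherianRing R] [IsNoetherianRing T] [Algebra A R] [Algebra A T] [Algebra R T]
  [IsScalarTower A R T]

/-- `T ≅ D⟦X⟧` with a given element, nonzero on the closed fibre, distinguished. -/
theorem exists_coords [IsAdicComplete (maximalIdeal R) R] [IsAdicComplete (maximalIdeal T) T]
    [IsLocalHom (algebraMap R T)] [IsLocalHom (algebraMap A R)] [Module.Flat A T]
    (hR : (maximalIdeal A).map (algebraMap A R) = maximalIdeal R)
    (hres : Function.Surjective (ResidueField.map (algebraMap R T)))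
    [IsRegularLocalRing (T ⧸ (maximalIdeal R).map (algebraMap R T))]
    {f : T} (hf : f ∈ maximalIdeal T) (hf' : f ∉ (maximalIdeal R).map (algebraMap R T)) :
    ∃ (n : ℕ) (e : PowerSeries (MvPowerSeries (Fin n) R) ≃+* T),
      PowerSeries.map (residue (MvPowerSeries (Fin n) R)) (e.symm f) ≠ 0 := by
  let JT := (maximalIdeal R).map (algebraMap R T)
  let S := T ⧸ JT
  have hJle : JT ≤ maximalIdeal T := by
    rw [Ideal.map_le_iff_le_comap]
    exact fun a ha => map_nonunit (algebraMap R T) a ha
  have hmk : (maximalIdeal T).map (Ideal.Quotient.mk JT) = maximalIdeal S :=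
    map_maximalIdeal_of_surjective _ Ideal.Quotient.mk_surjective
  have hf0 : Ideal.Quotient.mk JT f ≠ 0 := fun h => hf' (Ideal.Quotient.eq_zero_iff_mem.1 h)
  rcases hr : (maximalIdeal S).spanFinrank with _ | n
  · exfalso
    refine hf0 ?_
    have h := hmk ▸ Ideal.mem_map_of_mem (Ideal.Quotient.mk JT) hf
    rwa [(Submodule.spanFinrank_eq_zero_iff_eq_bot (IsNoetherian.noetherian _)).1 hr, Submodule.mem_bot] at h
  obtain ⟨z, hz, hfz⟩ := exists_params_avoiding n S hr _ hf0
  choose x hx using fun i => Ideal.Quotient.mk_surjective (z i)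
  have hxm : ∀ i, x i ∈ maximalIdeal T := fun i => by
    have h1 : z i ∈ (maximalIdeal T).map (Ideal.Quotient.mk JT) := by
      rw [hmk, ← hz]; exact Ideal.subset_span ⟨i, rfl⟩
    rw [← hx i] at h1
    have := Ideal.mem_comap.2 h1
    rwa [Ideal.comap_map_of_surjective _ Ideal.Quotient.mk_surjective, ← RingHom.ker_eq_comap_bot, Ideal.mk_ker,
      sup_eq_left.2 hJle] at this
  obtain ⟨ψ, hψ⟩ := H2Alg.PSHom.exists_algHom (A := R) (maximalIdeal T) x hxm
  let C := MvPowerSeries (Fin (n + 1)) R
  haveI : IsAdicComplete (maximalIdeal C) C := ArtFunLib.isAdicComplete_mvPowerSeries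
  have hgen : (maximalIdeal C).map ψ.toRingHom = maximalIdeal T := by
    rw [Cohen.maximalIdeal_mvPowerSeries, Ideal.map_sup, Ideal.map_map, H2Alg.PSHom.V, Ideal.map_span,
      ← Set.range_comp, show (⇑ψ.toRingHom ∘ fun i => MvPowerSeries.X i) = x from funext hψ,
      show ψ.toRingHom.comp (MvPowerSeries.C : R →+* C) = algebraMap R T from
        RingHom.ext fun a => ψ.commutes a]
    refine le_antisymm (sup_le hJle (Ideal.span_le.2 ?_)) fun t ht => ?_
    · rintro _ ⟨i, rfl⟩; exact hxm i
    · have h1 : Ideal.Quotient.mk JT t ∈ (Ideal.span (Set.range x)).map (Ideal.Quotient.mk JT) := by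
        rw [Ideal.map_span, ← Set.range_comp, show (⇑(Ideal.Quotient.mk JT) ∘ x) = z from funext hx, hz, ← hmk]
        exact Ideal.mem_map_of_mem _ ht
      have := Ideal.mem_comap.2 h1
      rwa [Ideal.comap_map_of_surjective _ Ideal.Quotient.mk_surjective, ← RingHom.ker_eq_comap_bot, Ideal.mk_ker,
        sup_comm] at this
  have hsurj : Function.Surjective ψ := by
    haveI : IsHausdorff ((maximalIdeal C).map ψ.toRingHom) T := by rw [hgen]; infer_instance
    refine surjective_of_mk_map_comp_surjective (I := maximalIdeal C) (f := ψ.toRingHom) fun t => ?_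
    obtain ⟨t, rfl⟩ := Ideal.Quotient.mk_surjective t
    obtain ⟨r, hr⟩ := hres (residue T t)
    obtain ⟨a, rfl⟩ := residue_surjective r
    refine ⟨algebraMap R C a, ?_⟩
    show Ideal.Quotient.mk _ (ψ (algebraMap R C a)) = _
    rw [ψ.commutes, Ideal.Quotient.mk_eq_mk_iff_sub_mem, hgen, ← residue_eq_zero_iff, map_sub,
      ← ResidueField.map_residue, hr, sub_self]
  haveI : IsAdicComplete (maximalIdeal S) S := CohenAlg3.isAdicComplete_quotient JT
  let eψ := AlgEquiv.ofBijective ψ (SmoothCpl5.bijective_of_surjective hR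
    (by rw [← IsRegularLocalRing.spanFinrank_maximalIdeal (R := S), hr]) ψ hsurj fun i => (hψ i).symm ▸ hxm i)
  let D := MvPowerSeries (Fin n) R
  let e : PowerSeries D ≃+* T := (MvPowerSeries.finSuccEquiv R n).symm.toRingEquiv.trans eψ.toRingEquiv
  refine ⟨n, e, fun h => hfz ?_⟩
  have hle : (maximalIdeal D).map (algebraMap D (PowerSeries D)) ≤
      ((JT ⊔ Ideal.span (Set.range (x ∘ Fin.succ))).comap e.toRingHom) := by
    rw [Cohen.maximalIdeal_mvPowerSeries, Ideal.map_sup, Ideal.map_map, H2Alg.PSHom.V, Ideal.map_span,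
      ← Set.range_comp, sup_le_iff, Ideal.map_le_iff_le_comap, Ideal.span_le]
    refine ⟨fun a ha => Ideal.mem_sup_left ?_, ?_⟩
    · show eψ ((MvPowerSeries.finSuccEquiv R n).symm (algebraMap D (PowerSeries D) (MvPowerSeries.C a))) ∈ JT
      rw [show algebraMap D (PowerSeries D) (MvPowerSeries.C a) = PowerSeries.C (MvPowerSeries.C a) from rfl,
        ← MvPowerSeries.finSuccEquiv_C, AlgEquiv.symm_apply_apply]
      exact (eψ.commutes a).symm ▸ Ideal.mem_map_of_mem _ ha
    · rintro _ ⟨i, rfl⟩
      refine Ideal.mem_sup_right ?_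
      show eψ ((MvPowerSeries.finSuccEquiv R n).symm (algebraMap D (PowerSeries D) (MvPowerSeries.X i))) ∈ _
      rw [show algebraMap D (PowerSeries D) (MvPowerSeries.X i) = PowerSeries.C (MvPowerSeries.X i) from rfl,
        ← MvPowerSeries.finSuccEquiv_X_succ, AlgEquiv.symm_apply_apply]
      exact Ideal.subset_span ⟨i, (hψ _).symm⟩
  have hmem : e.symm f ∈ (maximalIdeal D).map (algebraMap D (PowerSeries D)) :=
    ParaPS27.mem_map_C (IsNoetherian.noetherian _) fun d => by
      rw [← residue_eq_zero_iff, ← PowerSeries.coeff_map, h, map_zero]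
  have h2 := hle hmem
  rw [Ideal.mem_comap, show e.toRingHom (e.symm f) = f from e.apply_symm_apply f] at h2
  have h3 := Ideal.mem_map_of_mem (Ideal.Quotient.mk JT) h2
  rwa [Ideal.map_sup, Ideal.map_quotient_self, bot_sup_eq, Ideal.map_span, ← Set.range_comp,
    show (⇑(Ideal.Quotient.mk JT) ∘ (x ∘ Fin.succ)) = z ∘ Fin.succ from funext fun i => hx _] at h3

end Groth.Agent.RamSam27
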