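import Groth.Agent.Lib.RamSam27.Extend
import Groth.Agent.Lib.RamSam27.Normal
import Groth.Agent.Lib.RamSam27.EssFinite
import Groth.Agent.Lib.RegSmooth17.Local
import Groth.Agent.Lib.GRing6.RegOpen
import Groth.Agent.S0595

/-!
# Trivial punctured Picard group for regular local homomorphisms

By Popescu's theorem a regular homomorphism is a colimit of smooth algebras, whose residue extensions are
finitely generated.
-/

set_option autoImplicit false
set_option linter.style.haveILetI false

universe u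

open IsLocalRing TensorProduct

namespace Groth.Agent.RamSam27

open Groth.Agent.CIPic27 Groth.Agent.LocCohLib Groth.Agent.InjHullLib Groth.Agent.ParaGr27

/-- A map which is an isomorphism off `V(J)` trivialises the punctured Picard class after base change. -/
theorem nonempty_dual_equiv_of_map {R : Type u} [CommRing R] {T : Type u} [CommRing T] [IsLocalRing T]
    [IsNoetherianRing T] [Algebra R T] (hT : (2 : ℕ∞) ≤ LocCoh.depth T T) {J : Ideal R}
    (hJT : maximalIdeal T ≤ J.map (algebraMap R T)) (M : Type u) [AddCommGroup M] [Module R M] (φ : M →ₗ[R] R)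
    (hφ : ∀ p : PrimeSpectrum R, ¬ J ≤ p.asIdeal →
      ∃ (u : M) (s : R), s ∉ p.asIdeal ∧ φ u ∉ p.asIdeal ∧ ∀ x, ∃ c : R, s • x = c • u) :
    Nonempty (D T (T ⊗[R] M) ≃ₗ[T] T) := by
  let Φ : T ⊗[R] M →ₗ[T] T := LinearMap.liftBaseChange T (Algebra.linearMap R T ∘ₗ φ)
  have hdata : ∀ Q : PrimeSpectrum T, ¬ maximalIdeal T ≤ Q.asIdeal → ∃ (u : T ⊗[R] M) (a b : T),
      a ∉ Q.asIdeal ∧ b ∉ Q.asIdeal ∧ Φ u = b ∧ ∀ z, ∃ c : T, a • z = c • u := fun Q hQ => by
    obtain ⟨u, s, hs, hu, h1⟩ := hφ (PrimeSpectrum.comap (algebraMap R T) Q)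
      fun h => hQ (hJT.trans (Ideal.map_le_iff_le_comap.2 h))
    refine ⟨1 ⊗ₜ u, algebraMap R T s, algebraMap R T (φ u), hs, hu, ?_, fun z => ?_⟩
    · simp [Φ]
    · induction z using TensorProduct.induction_on with
      | zero => exact ⟨0, by rw [smul_zero, zero_smul]⟩
      | tmul t x =>
        obtain ⟨c, hc⟩ := h1 x
        refine ⟨t * algebraMap R T c, ?_⟩
        rw [algebraMap_smul, ← TensorProduct.tmul_smul, hc, mul_smul, algebraMap_smul, ← TensorProduct.tmul_smul,
          TensorProduct.smul_tmul', smul_eq_mul, mul_one]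
      | add x y hx hy =>
        obtain ⟨a, ha⟩ := hx
        obtain ⟨b, hb⟩ := hy
        exact ⟨a + b, by rw [smul_add, ha, hb, add_smul]⟩
  have hiso : IsoOff T Φ := by
    constructor
    · refine isPowerTorsion_of_local fun z Q hQ => ?_
      obtain ⟨u, a, b, ha, hb, hΦ, hgen⟩ := hdata Q hQ
      obtain ⟨c, hc⟩ := hgen z.1
      refine ⟨b * a, fun h => (Q.isPrime.mem_or_mem h).elim hb ha, Subtype.ext ?_⟩
      have h0 := congrArg Φ hc
      rw [map_smul, map_smul, LinearMap.mem_ker.1 z.2, smul_zero, hΦ, smul_eq_mul, mul_comm] at h0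
      rw [Submodule.coe_smul, mul_smul, hc, ← mul_smul, ← h0, zero_smul]
      rfl
    · refine isPowerTorsion_of_local fun y Q hQ => ?_
      obtain ⟨y, rfl⟩ := Submodule.Quotient.mk_surjective _ y
      obtain ⟨u, a, b, ha, hb, hΦ, -⟩ := hdata Q hQ
      refine ⟨b, hb, ?_⟩
      rw [← Submodule.Quotient.mk_smul, Submodule.Quotient.mk_eq_zero]
      exact ⟨y • u, by rw [map_smul, hΦ, smul_eq_mul, smul_eq_mul, mul_comm]⟩
  have h := (van_iff_natCast_le_depth (A := T) (X := T) 2).2 hT
  exact ⟨(LinearEquiv.ofBijective (LinearMap.lcomp T T Φ)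
    (precomp_bijective ⟨h 0 (by omega), h 1 (by omega)⟩ hiso)).symm.trans (LinearMap.ringLmapEquivSelf T T T)⟩

/-- The local rings of an essentially smooth algebra at the points of a fibrewise regular sequence. -/
theorem ptm_point {A R : Type u} [CommRing A] [IsLocalRing A] [IsNoetherianRing A] [CommRing R] [IsLocalRing R]
    [IsNoetherianRing R] [Algebra A R] [IsLocalHom (algebraMap A R)] [Algebra.FormallySmooth A R] [Module.Flat A R]
    [Algebra.EssFiniteType A R] {n : ℕ} (hn : n ≠ 0) (t : Fin n → R) (ht : ∀ i, t i ∈ maximalIdeal R)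
    (hreg : RingTheory.Sequence.IsWeaklyRegular (EGA4.FibRing A R)
      ((List.ofFn t).map (algebraMap R (EGA4.FibRing A R))))
    (hd : (3 : ℕ∞) ≤ LocCoh.depth A A + n) (y : PrimeSpectrum R)
    (hy : (maximalIdeal A).map (algebraMap A R) ⊔ Ideal.span (Set.range t) ≤ y.asIdeal) :
    (2 : ℕ∞) ≤ LocCoh.depth (Localization.AtPrime y.asIdeal) (Localization.AtPrime y.asIdeal) ∧
      PTm (Localization.AtPrime y.asIdeal) := by
  let S := Localization.AtPrime y.asIdeal
  haveI : IsNoetherianRing S := IsLocalization.isNoetherianRing y.asIdeal.primeCompl _ inferInstance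
  have hle : (maximalIdeal A).map (algebraMap A S) ≤ maximalIdeal S := by
    rw [IsScalarTower.algebraMap_eq A R S, ← Ideal.map_map, ← Localization.AtPrime.map_eq_maximalIdeal]
    exact Ideal.map_mono (le_sup_left.trans hy)
  haveI : IsLocalHom (algebraMap A S) := ((local_hom_TFAE (algebraMap A S)).out 0 2).2 hle
  haveI : Algebra.FormallySmooth R S := Algebra.FormallySmooth.of_isLocalization y.asIdeal.primeCompl
  haveI : Algebra.FormallySmooth A S := Algebra.FormallySmooth.comp A R S
  haveI : Module.Flat R S := IsLocalization.flat _ y.asIdeal.primeCompl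
  haveI : Module.Flat A S := Module.Flat.trans A R S
  haveI : Algebra.EssFiniteType R S := Algebra.EssFiniteType.of_isLocalization S y.asIdeal.primeCompl
  haveI : Algebra.EssFiniteType A S := Algebra.EssFiniteType.comp A R S
  have hfs : EGA41.IsFormallySmoothAdic A (maximalIdeal A) S (maximalIdeal S) :=
    fun C _ _ I hI _ u _ => Algebra.FormallySmooth.exists_lift I hI u
  haveI := isRegularLocalRing_fibRing (adicFS_of_EGA41 hfs)
  -- the sequence stays regular in the fibre
  let F := EGA4.FibRing A R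
  let F' := S ⧸ (EGA4.mB A R).map (algebraMap R S)
  have hI : (EGA4.mB A R).map (algebraMap R S) = EGA4.mB A S := by
    show ((maximalIdeal A).map (algebraMap A R)).map (algebraMap R S) = (maximalIdeal A).map (algebraMap A S)
    rw [Ideal.map_map, ← IsScalarTower.algebraMap_eq]
  haveI : IsLocalization (Algebra.algebraMapSubmonoid (R ⧸ EGA4.mB A R) y.asIdeal.primeCompl) F' := inferInstance
  haveI : Module.Flat F F' := IsLocalization.flat F' (Algebra.algebraMapSubmonoid (R ⧸ EGA4.mB A R) y.asIdeal.primeCompl)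
  have hreg' : RingTheory.Sequence.IsWeaklyRegular F'
      (((List.ofFn t).map (algebraMap R F)).map (algebraMap F F')) :=
    RingTheory.Sequence.IsWeaklyRegular.of_flat hreg
  let e : F' ≃+* EGA4.FibRing A S := Ideal.quotEquivOfEq hI
  haveI : IsLocalRing F' := e.symm.isLocalRing
  haveI : IsRegularLocalRing F' := IsRegularLocalRing.of_ringEquiv e.symm
  have hn' : (n : ℕ∞) ≤ LocCoh.depth F' F' := by
    have h := DepthLib.length_le_idealDepth (I := maximalIdeal F') hreg' fun r hr => by
      simp only [List.mem_map, List.mem_ofFn] at hr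
      obtain ⟨_, ⟨_, ⟨i, rfl⟩, rfl⟩, rfl⟩ := hr
      show Ideal.Quotient.mk _ (algebraMap R S (t i)) ∈ maximalIdeal F'
      rw [← map_maximalIdeal_of_surjective (Ideal.Quotient.mk ((EGA4.mB A R).map (algebraMap R S)))
        Ideal.Quotient.mk_surjective]
      refine Ideal.mem_map_of_mem _ ?_
      exact (IsLocalization.AtPrime.to_map_mem_maximal_iff _ y.asIdeal _).2
        (hy (Ideal.mem_sup_right (Ideal.subset_span ⟨i, rfl⟩)))
    simp only [List.length_map, List.length_ofFn] at h
    exact h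
  rw [← SMT.depth_eq_of_ringEquiv e] at hn'
  obtain ⟨hdS, -⟩ := FlatDepth.ring_fibre_invariants (A := A) (B := S)
  have h3 : (3 : ℕ∞) ≤ LocCoh.depth S S := hdS ▸ hd.trans (add_le_add le_rfl hn')
  refine ⟨le_trans (by norm_num) h3, ?_⟩
  haveI := RegLoc.isDomain (EGA4.FibRing A S)
  have hne : ∃ Q : PrimeSpectrum S, (maximalIdeal A).map (algebraMap A S) ≤ Q.asIdeal ∧
      Q.asIdeal ≠ maximalIdeal S := by
    refine ⟨⟨EGA4.mB A S, (Ideal.Quotient.isDomain_iff_prime _).1 inferInstance⟩, le_rfl, fun h => ?_⟩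
    haveI : (EGA4.mB A S).IsMaximal := (show EGA4.mB A S = _ from h) ▸ maximalIdeal.isMaximal S
    have hF : IsField (EGA4.FibRing A S) := (Ideal.Quotient.maximal_ideal_iff_isField_quotient _).1 inferInstance
    have h0 := DepthLib.depth_le_supportDim (R := EGA4.FibRing A S) (M := EGA4.FibRing A S)
    rw [Module.supportDim_self_eq_ringKrullDim, ringKrullDim_eq_zero_of_isField hF] at h0
    have h1 := hn'.trans (WithBot.coe_le_coe.1 h0)
    exact hn (by simpa using h1)
  letI : Algebra A (ResidueField S) := ((residue S).comp (algebraMap A S)).toAlgebra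
  haveI : IsScalarTower A S (ResidueField S) := .of_algebraMap_eq fun _ => rfl
  haveI : IsScalarTower A (ResidueField A) (ResidueField S) :=
    .of_algebraMap_eq fun a => (ResidueField.map_residue _ a).symm
  haveI : Module.Finite S (ResidueField S) := Module.Finite.of_surjective (Algebra.linearMap _ _) residue_surjective
  haveI : Algebra.EssFiniteType A (ResidueField S) := Algebra.EssFiniteType.comp A S _
  haveI : Algebra.EssFiniteType (ResidueField A) (ResidueField S) := Algebra.EssFiniteType.of_comp A _ _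
  obtain ⟨k', i1, i2, i3, M, i4, hsep⟩ := exists_separable_finite (ResidueField A) (ResidueField S)
  exact ptm_formallySmooth hfs hne h3 k' M hsep

/-- Triviality of the punctured Picard group from the local rings of the essentially smooth stages. -/
theorem ptm_of_points {A T : Type u} [CommRing A] [IsLocalRing A] [IsNoetherianRing A] [CommRing T]
    [IsLocalRing T] [IsNoetherianRing T] [Algebra A T] [IsLocalHom (algebraMap A T)]
    (hreg : CAlg.IsRegularHom A T) (hd : (2 : ℕ∞) ≤ LocCoh.depth T T)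
    (hpts : ∀ (R : Type u) [CommRing R] [IsLocalRing R] [IsNoetherianRing R] [Algebra A R]
      [IsLocalHom (algebraMap A R)] [Algebra.FormallySmooth A R] [Module.Flat A R] [Algebra.EssFiniteType A R]
      (n : ℕ) (t : Fin n → R), n = (maximalIdeal (EGA4.FibRing A T)).spanFinrank → (∀ i, t i ∈ maximalIdeal R) →
      RingTheory.Sequence.IsWeaklyRegular (EGA4.FibRing A R) ((List.ofFn t).map (algebraMap R (EGA4.FibRing A R))) →
      ∀ y : PrimeSpectrum R, (maximalIdeal A).map (algebraMap A R) ⊔ Ideal.span (Set.range t) ≤ y.asIdeal →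
        (2 : ℕ∞) ≤ LocCoh.depth (Localization.AtPrime y.asIdeal) (Localization.AtPrime y.asIdeal) ∧
          PTm (Localization.AtPrime y.asIdeal)) : PTm T := by
  classical
  haveI := hreg.1
  have hfsT : CAlgX.IsAdicFormallySmooth A T (maximalIdeal T) :=
    (FSFlat3.isAdicFormallySmooth_iff (k := (maximalIdeal A).ResidueField)
      (maximalIdeal A).algebraMap_residueField_surjective).2 ⟨hreg.1, (hreg.2 (maximalIdeal A)).2⟩
  haveI := isRegularLocalRing_fibRing hfsT
  let B₀ := EGA4.FibRing A T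
  obtain ⟨b, hb⟩ := CohenAlg3.exists_fin_gens (R := B₀)
  choose τ hτ using fun i => Ideal.Quotient.mk_surjective (b i)
  let n := (maximalIdeal B₀).spanFinrank
  intro N _ _ _ hN
  -- equations for `N` and its trivialisations
  obtain ⟨r, π, hπ⟩ := Module.Finite.exists_fin' T N
  obtain ⟨m, w, hw⟩ := Submodule.fg_iff_exists_fin_generating_family.1 (IsNoetherian.noetherian (LinearMap.ker π))
  let D₁ := { d : T × (Fin r → T) × (Fin r → T) //
    (∀ x, d.1 • x - (∑ k, d.2.2 k * x k) • d.2.1 ∈ LinearMap.ker π) ∧ (∀ l, ∑ k, d.2.2 k * w l k = 0) ∧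
      ∑ k, d.2.2 k * d.2.1 k = d.1 }
  have hD : ∀ p : PrimeSpectrum T, ¬ maximalIdeal T ≤ p.asIdeal → ∃ d : D₁, d.1.1 ∉ p.asIdeal := fun p hp => by
    obtain ⟨u, s, hs, h1, h2⟩ := hN p hp
    obtain ⟨ψ, hψ, hψ'⟩ := exists_func u s h1 h2
    obtain ⟨u', rfl⟩ := hπ u
    have hlin : ∀ x : Fin r → T, ∑ k, ψ (π (Pi.single k 1)) * x k = ψ (π x) := fun x => by
      conv_rhs => rw [pi_eq_sum_univ x, map_sum, map_sum]
      refine Finset.sum_congr rfl fun k _ => ?_
      rw [map_smul, map_smul, smul_eq_mul, mul_comm]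
      congr 3
      funext j
      simp [Pi.single_apply, eq_comm]
    refine ⟨⟨(s * s, u', fun k => ψ (π (Pi.single k 1))), fun x => ?_, fun l => ?_, ?_⟩,
      fun h => (p.isPrime.mem_or_mem h).elim hs hs⟩
    · show (s * s) • x - (∑ k, ψ (π (Pi.single k 1)) * x k) • u' ∈ LinearMap.ker π
      rw [LinearMap.mem_ker, map_sub, map_smul, map_smul, hlin, hψ', sub_self]
    · show ∑ k, ψ (π (Pi.single k 1)) * w l k = 0
      rw [hlin, show π (w l) = 0 from LinearMap.mem_ker.1 (hw ▸ Submodule.subset_span ⟨l, rfl⟩), map_zero]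
    · show ∑ k, ψ (π (Pi.single k 1)) * u' k = s * s
      rw [hlin, hψ]
  let s₀ : D₁ → T := fun d => d.1.1
  have hmrad : maximalIdeal T ≤ (Ideal.span (Set.range s₀)).radical := by
    intro a ha
    rw [Ideal.radical_eq_sInf, Submodule.mem_sInf]
    rintro P ⟨hle, hP⟩
    by_contra haP
    obtain ⟨d, hd⟩ := hD ⟨P, hP⟩ fun hm => haP (hm ha)
    exact hd (hle (Ideal.subset_span ⟨d, rfl⟩))
  obtain ⟨e, aA, haA⟩ := Submodule.fg_iff_exists_fin_generating_family.1 (IsNoetherian.noetherian (maximalIdeal A))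
  let x : Fin n ⊕ Fin e → T := Sum.elim τ fun j => algebraMap A T (aA j)
  have hτm : ∀ i, τ i ∈ maximalIdeal T := fun i => by
    have h : Ideal.Quotient.mk (EGA4.mB A T) (τ i) ∈ maximalIdeal B₀ := by
      rw [hτ, ← hb]; exact Ideal.subset_span ⟨i, rfl⟩
    by_contra hc
    exact h ((notMem_maximalIdeal.1 hc).map _)
  have hleT : EGA4.mB A T ≤ maximalIdeal T := ((local_hom_TFAE (algebraMap A T)).out 0 2).1 ‹_›
  have hxm : ∀ i, x i ∈ maximalIdeal T := fun i => match i with
    | .inl i => hτm i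
    | .inr j => hleT (Ideal.mem_map_of_mem _ (haA ▸ Submodule.subset_span ⟨j, rfl⟩))
  have hpow : ∀ i, ∃ L : ℕ, x i ^ L ∈ Ideal.span (Set.range s₀) := fun i => hmrad (hxm i)
  choose L hL using hpow
  choose q co bd hbd using fun i => Submodule.mem_span_set'.1 (hL i)
  choose dd hdd using fun i j => (bd i j).2
  let ι := Σ i, Fin (q i)
  let d : ι → D₁ := fun z => dd z.1 z.2
  have hgen : ∀ (z : ι) (k : Fin r), ∃ c : Fin m → T,
      ∑ l, c l • w l = (d z).1.1 • Pi.single k 1 - (d z).1.2.2 k • (d z).1.2.1 := fun z k => by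
    rw [← Submodule.mem_span_range_iff_exists_fun, hw]
    have h := (d z).2.1 (Pi.single k 1)
    simpa [Pi.single_apply] using h
  choose cw hcw using hgen
  -- the finitely generated algebra and Popescu's factorisation
  let G : Set T := Set.range τ ∪ (Set.range (fun lk : Fin m × Fin r => w lk.1 lk.2) ∪
    (Set.range (fun z => (d z).1.1) ∪ (Set.range (fun zk : ι × Fin r => (d zk.1).1.2.1 zk.2) ∪
    (Set.range (fun zk : ι × Fin r => (d zk.1).1.2.2 zk.2) ∪
    (Set.range (fun zkl : (ι × Fin r) × Fin m => cw zkl.1.1 zkl.1.2 zkl.2) ∪ Set.range (fun z : ι => co z.1 z.2))))))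
  have hG : G.Finite := by
    refine Set.Finite.union ?_ (Set.Finite.union ?_ (Set.Finite.union ?_ (Set.Finite.union ?_
      (Set.Finite.union ?_ (Set.Finite.union ?_ ?_))))) <;> exact Set.finite_range _
  let P₀ := Algebra.adjoin A G
  haveI : Algebra.FiniteType A P₀ := P₀.fg_iff_finiteType.1 (Subalgebra.fg_def.2 ⟨G, hG, rfl⟩)
  haveI : Algebra.FinitePresentation A P₀ := Algebra.FinitePresentation.of_finiteType.1 inferInstance
  obtain ⟨C, iC, iAC, hsm, g, h, hgh⟩ := Groth.Agent.S0595.result A T hreg P₀ P₀.val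
  haveI := hsm
  haveI : IsNoetherianRing C := Algebra.FiniteType.isNoetherianRing A C
  let qC := (maximalIdeal T).comap h.toRingHom
  haveI : qC.IsPrime := Ideal.IsPrime.comap _
  let R := Localization.AtPrime qC
  haveI : IsNoetherianRing R := IsLocalization.isNoetherianRing qC.primeCompl _ inferInstance
  have hu : ∀ z : qC.primeCompl, IsUnit (h.toRingHom z) := fun z => by
    by_contra hc
    exact z.2 hc
  let ρ : R →+* T := IsLocalization.lift hu
  letI : Algebra R T := ρ.toAlgebra
  have hρC : ∀ c, ρ (algebraMap C R c) = h c := fun c => IsLocalization.lift_eq hu c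
  haveI : IsScalarTower A R T := .of_algebraMap_eq fun a => by
    rw [IsScalarTower.algebraMap_apply A C R, RingHom.algebraMap_toAlgebra, hρC, h.commutes]
  haveI : IsLocalHom (algebraMap R T) := ⟨fun z hz => by
    obtain ⟨c, s, rfl⟩ := IsLocalization.exists_mk'_eq qC.primeCompl z
    refine (IsLocalization.AtPrime.isUnit_mk'_iff R qC c s).2 fun hc => hc ?_
    have h1 : ρ (algebraMap C R c) = ρ (algebraMap C R s) * ρ (IsLocalization.mk' R c s) := by
      rw [← map_mul, IsLocalization.mk'_spec']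
    show IsUnit (h c)
    rw [← hρC, h1]
    exact ((hρC _).symm ▸ hu s).mul hz⟩
  haveI : IsLocalHom (algebraMap A R) := ⟨fun a ha => isUnit_of_map_unit (algebraMap A T) a (by
    rw [IsScalarTower.algebraMap_apply A R T]; exact ha.map _)⟩
  haveI : Algebra.FormallySmooth C R := Algebra.FormallySmooth.of_isLocalization qC.primeCompl
  haveI : Algebra.FormallySmooth A R := Algebra.FormallySmooth.comp A C R
  haveI : Module.Flat C R := IsLocalization.flat _ qC.primeCompl
  haveI : Module.Flat A R := Module.Flat.trans A C R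
  haveI : Algebra.EssFiniteType C R := Algebra.EssFiniteType.of_isLocalization R qC.primeCompl
  haveI : Algebra.EssFiniteType A R := Algebra.EssFiniteType.comp A C R
  -- lifts of the data
  let lf : ∀ a : T, a ∈ G → R := fun a ha => algebraMap C R (g ⟨a, Algebra.subset_adjoin ha⟩)
  let γ : P₀ →ₐ[A] R := (IsScalarTower.toAlgHom A C R).comp g
  have hγ : ∀ a : P₀, algebraMap R T (γ a) = (a : T) := fun a => by
    show ρ (algebraMap C R (g a)) = _
    rw [hρC]
    exact AlgHom.congr_fun hgh a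
  let inP : ∀ a : T, a ∈ G → P₀ := fun a ha => ⟨a, Algebra.subset_adjoin ha⟩
  let tP : Fin n → P₀ := fun i => inP (τ i) (Or.inl ⟨i, rfl⟩)
  let wP : Fin m → Fin r → P₀ := fun l k => inP (w l k) (Or.inr (Or.inl ⟨(l, k), rfl⟩))
  let sP : ι → P₀ := fun z => inP ((d z).1.1) (Or.inr (Or.inr (Or.inl ⟨z, rfl⟩)))
  let uP : ι → Fin r → P₀ := fun z k => inP _ (Or.inr (Or.inr (Or.inr (Or.inl ⟨(z, k), rfl⟩))))
  let ψP : ι → Fin r → P₀ := fun z k => inP _ (Or.inr (Or.inr (Or.inr (Or.inr (Or.inl ⟨(z, k), rfl⟩)))))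
  let cP : ι → Fin r → Fin m → P₀ := fun z k l =>
    inP _ (Or.inr (Or.inr (Or.inr (Or.inr (Or.inr (Or.inl ⟨((z, k), l), rfl⟩))))))
  let coP : ι → P₀ := fun z => inP _ (Or.inr (Or.inr (Or.inr (Or.inr (Or.inr (Or.inr ⟨z, rfl⟩))))))
  let tR : Fin n → R := fun i => γ (tP i)
  let J : Ideal R := (maximalIdeal A).map (algebraMap A R) ⊔ Ideal.span (Set.range tR)
  have htm : ∀ i, tR i ∈ maximalIdeal R := fun i => by
    by_contra hc
    exact (hτm i) (by rw [show τ i = algebraMap R T (tR i) from (hγ (tP i)).symm]; exact (notMem_maximalIdeal.1 hc).map _)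
  -- the sequence is regular on the closed fibre
  have hfsR : EGA41.IsFormallySmoothAdic A (maximalIdeal A) R (maximalIdeal R) :=
    fun C' _ _ I hI _ u _ => Algebra.FormallySmooth.exists_lift I hI u
  haveI := isRegularLocalRing_fibRing (adicFS_of_EGA41 hfsR)
  have hmB : EGA4.mB A R ≤ (EGA4.mB A T).comap (algebraMap R T) := by
    refine Ideal.map_le_iff_le_comap.2 fun a ha => ?_
    show algebraMap R T (algebraMap A R a) ∈ EGA4.mB A T
    rw [← IsScalarTower.algebraMap_apply]
    exact Ideal.mem_map_of_mem _ ha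
  let θ : EGA4.FibRing A R →+* B₀ := Ideal.quotientMap (EGA4.mB A T) (algebraMap R T) hmB
  have hθm : (maximalIdeal (EGA4.FibRing A R)).map θ ≤ maximalIdeal B₀ := by
    show (maximalIdeal (R ⧸ EGA4.mB A R)).map θ ≤ _
    rw [← map_maximalIdeal_of_surjective (Ideal.Quotient.mk (EGA4.mB A R)) Ideal.Quotient.mk_surjective, Ideal.map_map,
      show θ.comp (Ideal.Quotient.mk (EGA4.mB A R)) = (Ideal.Quotient.mk (EGA4.mB A T)).comp (algebraMap R T) from
        RingHom.ext fun z => rfl, ← Ideal.map_map]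
    exact (Ideal.map_mono (((local_hom_TFAE (algebraMap R T)).out 0 2).1 ‹_›)).trans
      (map_maximalIdeal_of_surjective (Ideal.Quotient.mk (EGA4.mB A T)) Ideal.Quotient.mk_surjective).le
  have htR : RingTheory.Sequence.IsWeaklyRegular (EGA4.FibRing A R)
      ((List.ofFn tR).map (algebraMap R (EGA4.FibRing A R))) := by
    rw [List.map_ofFn]
    refine ((RegLoc.regular_of_independent n (EGA4.FibRing A R) _ (fun i => ?_) fun a ha i => ?_).2).toIsWeaklyRegular
    · show Ideal.Quotient.mk (EGA4.mB A R) (tR i) ∈ maximalIdeal _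
      rw [← map_maximalIdeal_of_surjective (Ideal.Quotient.mk (EGA4.mB A R)) Ideal.Quotient.mk_surjective]
      exact Ideal.mem_map_of_mem _ (htm i)
    · have h1 : θ (∑ j, a j * algebraMap R (EGA4.FibRing A R) (tR j)) ∈ maximalIdeal B₀ * maximalIdeal B₀ := by
        rw [← pow_two]
        exact Ideal.pow_right_mono hθm 2 (by rw [← Ideal.map_pow]; exact Ideal.mem_map_of_mem θ ha)
      simp only [map_sum, map_mul] at h1
      have h2 : ∀ j, θ (algebraMap R (EGA4.FibRing A R) (tR j)) = b j := fun j => by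
        show Ideal.Quotient.mk _ (algebraMap R T (tR j)) = b j
        rw [show algebraMap R T (tR j) = τ j from hγ _, hτ]
      simp only [h2] at h1
      have h3 := RegSmooth17.mem_maximalIdeal_of_sum_mem rfl hb h1 i
      by_contra hc
      exact h3 ((notMem_maximalIdeal.1 hc).map θ)
  -- the model of `N`
  let wR : Fin m → Fin r → R := fun l k => γ (wP l k)
  let MR := (Fin r → R) ⧸ Submodule.span R (Set.range wR)
  let mk : (Fin r → R) →ₗ[R] MR := Submodule.mkQ _
  have hwS : ∀ l, mk (wR l) = 0 := fun l => (Submodule.Quotient.mk_eq_zero _).2 (Submodule.subset_span ⟨l, rfl⟩)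
  have heq1 : ∀ z k, ∑ l, γ (cP z k l) • wR l =
      γ (sP z) • (Pi.single k 1 : Fin r → R) - γ (ψP z k) • (fun j => γ (uP z j)) := fun z k => by
    funext j
    have h1 : ∑ l, cP z k l * wP l j = sP z * (Pi.single k (1 : P₀) : Fin r → P₀) j - ψP z k * uP z j := by
      apply Subtype.ext
      have h0 := congrFun (hcw z k) j
      simpa [Pi.single_apply, apply_ite Subtype.val, tP, wP, sP, uP, ψP, cP, inP] using h0
    have h2 := congrArg γ h1
    simpa [Pi.single_apply, wR, apply_ite γ] using h2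
  have heq2 : ∀ z l, ∑ k, γ (ψP z k) * wR l k = 0 := fun z l => by
    have h1 : ∑ k, ψP z k * wP l k = 0 := by
      apply Subtype.ext
      simpa [ψP, wP, inP] using (d z).2.2.1 l
    simpa [wR] using congrArg γ h1
  have heq3 : ∀ z, ∑ k, γ (ψP z k) * γ (uP z k) = γ (sP z) := fun z => by
    have h1 : ∑ k, ψP z k * uP z k = sP z := by
      apply Subtype.ext
      simpa [ψP, uP, sP, inP] using (d z).2.2.2
    simpa using congrArg γ h1
  have heq4 : ∀ i, γ (Sum.elim tP (fun j => algebraMap A P₀ (aA j)) i) ^ L i =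
      ∑ j, γ (coP ⟨i, j⟩) * γ (sP ⟨i, j⟩) := fun i => by
    have h1 : Sum.elim tP (fun j => algebraMap A P₀ (aA j)) i ^ L i = ∑ j, coP ⟨i, j⟩ * sP ⟨i, j⟩ := by
      apply Subtype.ext
      have h0 := hbd i
      simp only [smul_eq_mul, ← hdd] at h0
      rcases i with i | i <;> simpa [tP, coP, sP, inP, x, d, s₀] using h0.symm
    simpa using congrArg γ h1
  have hfree : ∀ p : PrimeSpectrum R, ¬ J ≤ p.asIdeal → Free1 R MR p := fun p hp => by
    obtain ⟨z, hz⟩ : ∃ z : ι, γ (sP z) ∉ p.asIdeal := by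
      by_contra! hc
      refine hp (sup_le ?_ (Ideal.span_le.2 ?_))
      · rw [← haA, Ideal.map_le_iff_le_comap]
        refine Submodule.span_le.2 ?_
        rintro _ ⟨j, rfl⟩
        refine p.isPrime.mem_of_pow_mem (L (Sum.inr j)) ?_
        show algebraMap A R (aA j) ^ _ ∈ _
        rw [← γ.commutes]
        exact (heq4 (Sum.inr j)).symm ▸ Ideal.sum_mem _ fun k _ => Ideal.mul_mem_left _ _ (hc _)
      · rintro _ ⟨i, rfl⟩
        refine p.isPrime.mem_of_pow_mem (L (Sum.inl i)) ?_
        exact (heq4 (Sum.inl i)).symm ▸ Ideal.sum_mem _ fun k _ => Ideal.mul_mem_left _ _ (hc _)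
    let ψl : (Fin r → R) →ₗ[R] R := Fintype.linearCombination R fun k => γ (ψP z k)
    have hψl : ∀ v, ψl v = ∑ k, γ (ψP z k) * v k := fun v => by
      simp only [ψl, Fintype.linearCombination_apply, smul_eq_mul, mul_comm]
    let ψM : MR →ₗ[R] R := Submodule.liftQ _ ψl (Submodule.span_le.2 (by
      rintro _ ⟨l, rfl⟩
      exact (hψl _).trans (heq2 z l)))
    refine ⟨mk fun j => γ (uP z j), γ (sP z), hz, fun v => ?_, fun c hc => ?_⟩
    · obtain ⟨v, rfl⟩ := Submodule.Quotient.mk_surjective _ v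
      refine ⟨∑ k, v k * γ (ψP z k), ?_⟩
      show γ (sP z) • mk v = _ • mk _
      have hv : v = ∑ k, v k • (Pi.single k 1 : Fin r → R) := by
        funext j; simp [Pi.single_apply]
      conv_lhs => rw [hv]
      rw [map_sum, Finset.smul_sum, Finset.sum_smul]
      refine Finset.sum_congr rfl fun k _ => ?_
      have h0 : γ (sP z) • mk (Pi.single k 1) = γ (ψP z k) • mk fun j => γ (uP z j) := by
        rw [← sub_eq_zero, ← map_smul, ← map_smul, ← map_sub, ← heq1, map_sum]
        exact Finset.sum_eq_zero fun l _ => by rw [map_smul, hwS, smul_zero]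
      rw [map_smul, smul_comm, h0, smul_smul]
    · have h0 := congrArg ψM hc
      rw [map_smul, map_zero, smul_eq_mul] at h0
      rw [← heq3 z, ← hψl, mul_comm]
      exact h0
  obtain ⟨φ, hφ⟩ := exists_map_of_ptm J MR hfree (hpts R n tR rfl htm htR)
  -- back to `T`
  have hJT : maximalIdeal T ≤ J.map (algebraMap R T) := by
    have h1 : Ideal.span (Set.range τ) ⊔ EGA4.mB A T = maximalIdeal T := by
      have h := congrArg (Ideal.comap (Ideal.Quotient.mk (EGA4.mB A T))) hb
      rw [show Set.range b = Ideal.Quotient.mk (EGA4.mB A T) '' Set.range τ by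
          rw [← Set.range_comp]; exact congrArg Set.range (funext fun i => (hτ i).symm),
        ← Ideal.map_span, Ideal.comap_map_of_surjective _ Ideal.Quotient.mk_surjective, ← RingHom.ker_eq_comap_bot,
        Ideal.mk_ker] at h
      refine h.trans ?_
      show (maximalIdeal (T ⧸ EGA4.mB A T)).comap (Ideal.Quotient.mk (EGA4.mB A T)) = _
      rw [← map_maximalIdeal_of_surjective (Ideal.Quotient.mk (EGA4.mB A T)) Ideal.Quotient.mk_surjective,
        Ideal.comap_map_of_surjective _ Ideal.Quotient.mk_surjective, ← RingHom.ker_eq_comap_bot, Ideal.mk_ker,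
        sup_eq_left.2 hleT]
    rw [← h1, Ideal.map_sup, sup_comm]
    refine sup_le_sup (le_of_eq ?_) (Ideal.span_le.2 ?_)
    · rw [Ideal.map_map, ← IsScalarTower.algebraMap_eq]
    · rintro _ ⟨i, rfl⟩
      rw [← show algebraMap R T (tR i) = τ i from hγ _]
      exact Ideal.mem_map_of_mem _ (Ideal.subset_span ⟨i, rfl⟩)
  obtain ⟨eD⟩ := nonempty_dual_equiv_of_map hd hJT MR φ hφ
  -- `T ⊗ MR ≅ N`
  letI : Module R N := Module.compHom N (algebraMap R T)
  haveI : IsScalarTower R T N := ⟨fun c z v => by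
    show (c • z) • v = algebraMap R T c • z • v
    rw [Algebra.smul_def, mul_smul]⟩
  let e₁ : Fin r → (Fin r → R) := fun k => Pi.single k 1
  let θ₀ : (Fin r → R) →ₗ[R] N := Fintype.linearCombination R fun k => π (Pi.single k 1)
  have hθ₀ : ∀ v, θ₀ v = π fun k => algebraMap R T (v k) := fun v => by
    have : (fun k => algebraMap R T (v k)) = ∑ k, algebraMap R T (v k) • (Pi.single k 1 : Fin r → T) := by
      funext j; simp [Pi.single_apply, Algebra.smul_def]
    rw [this, map_sum, Fintype.linearCombination_apply]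
    exact Finset.sum_congr rfl fun k _ => (map_smul π _ _).symm
  have hθw : ∀ l, θ₀ (wR l) = 0 := fun l => by
    rw [hθ₀, show (fun k => algebraMap R T (wR l k)) = w l from funext fun k => hγ _]
    exact LinearMap.mem_ker.1 (hw ▸ Submodule.subset_span ⟨l, rfl⟩)
  let θM : MR →ₗ[R] N := Submodule.liftQ _ θ₀ (Submodule.span_le.2 (by rintro _ ⟨l, rfl⟩; exact hθw l))
  let Θ : T ⊗[R] MR →ₗ[T] N := LinearMap.liftBaseChange T θM
  let Ψ₀ : (Fin r → T) →ₗ[T] T ⊗[R] MR := Fintype.linearCombination T fun k => 1 ⊗ₜ[R] mk (e₁ k)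
  have hΨw : ∀ l, Ψ₀ (w l) = 0 := fun l => by
    have hv : wR l = ∑ k, wR l k • e₁ k := by funext j; simp [e₁, Pi.single_apply]
    calc Ψ₀ (w l) = ∑ k, w l k • (1 : T) ⊗ₜ[R] mk (e₁ k) := Fintype.linearCombination_apply _ _ _
      _ = ∑ k, (1 : T) ⊗ₜ[R] mk (wR l k • e₁ k) := Finset.sum_congr rfl fun k _ => by
          rw [map_smul, TensorProduct.tmul_smul, ← algebraMap_smul T (wR l k), show algebraMap R T (wR l k) = w l k from hγ _]
      _ = 0 := by rw [← TensorProduct.tmul_sum, ← map_sum, ← hv, hwS, TensorProduct.tmul_zero]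
  let Ψ : N →ₗ[T] T ⊗[R] MR := (LinearMap.ker π).liftQ Ψ₀ (by
    rw [← hw]
    exact Submodule.span_le.2 (by rintro _ ⟨l, rfl⟩; exact hΨw l)) ∘ₗ (π.quotKerEquivOfSurjective hπ).symm.toLinearMap
  have hΨ : ∀ v, Ψ (π v) = Ψ₀ v := fun v => by
    simp only [Ψ, LinearMap.comp_apply, LinearEquiv.coe_coe]
    rw [show (π.quotKerEquivOfSurjective hπ).symm (π v) = Submodule.Quotient.mk v from
      (π.quotKerEquivOfSurjective hπ).injective (by simp), Submodule.liftQ_apply]
  have hone : ∀ k, (fun j => algebraMap R T (e₁ k j)) = Pi.single k 1 := fun k => by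
    funext j; simp [e₁, Pi.single_apply]
  have h12 : Θ ∘ₗ Ψ = LinearMap.id := by
    refine (LinearMap.cancel_right hπ).1 (LinearMap.pi_ext' fun k => LinearMap.ext_ring ?_)
    show Θ (Ψ (π (Pi.single k 1))) = π (Pi.single k 1)
    rw [hΨ, show Ψ₀ (Pi.single k 1) = (1 : T) ⊗ₜ[R] mk (e₁ k) by simp [Ψ₀, Fintype.linearCombination_apply_single]]
    simp only [Θ, LinearMap.liftBaseChange_one_tmul]
    show θ₀ (e₁ k) = _
    rw [hθ₀, hone]
  have h21 : Ψ ∘ₗ Θ = LinearMap.id := by
    refine TensorProduct.AlgebraTensorModule.curry_injective (LinearMap.ext_ring ?_)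
    refine Submodule.linearMap_qext _ (LinearMap.pi_ext' fun k => LinearMap.ext_ring ?_)
    show Ψ (Θ ((1 : T) ⊗ₜ[R] mk (e₁ k))) = (1 : T) ⊗ₜ[R] mk (e₁ k)
    simp only [Θ, LinearMap.liftBaseChange_one_tmul]
    show Ψ (θ₀ (e₁ k)) = _
    rw [hθ₀, hone, hΨ]
    simp [Ψ₀, Fintype.linearCombination_apply_single]
  let eN : T ⊗[R] MR ≃ₗ[T] N := LinearEquiv.ofLinear Θ Ψ h12 h21
  exact ⟨(LinearEquiv.dualMap eN).trans eD⟩

/-- **Ramanujam–Samuel without hypothesis on the residue extension.** -/
theorem ptm_of_regularHom {A T : Type u} [CommRing A] [IsLocalRing A] [IsNoetherianRing A] [CommRing T]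
    [IsLocalRing T] [IsNoetherianRing T] [Algebra A T] [IsLocalHom (algebraMap A T)]
    (hreg : CAlg.IsRegularHom A T) (hnf : ¬ IsField (EGA4.FibRing A T))
    (hd : (3 : ℕ∞) ≤ LocCoh.depth T T) : PTm T := by
  haveI := hreg.1
  let n := (maximalIdeal (EGA4.FibRing A T)).spanFinrank
  haveI := isRegularLocalRing_fibRing ((FSFlat3.isAdicFormallySmooth_iff (k := (maximalIdeal A).ResidueField)
    (maximalIdeal A).algebraMap_residueField_surjective).2 ⟨hreg.1, (hreg.2 (maximalIdeal A)).2⟩)
  have hn : n ≠ 0 := fun h0 => hnf (isField_iff_maximalIdeal_eq.2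
    ((Submodule.spanFinrank_eq_zero_iff_eq_bot (IsNoetherian.noetherian _)).1 h0))
  have hdn : (3 : ℕ∞) ≤ LocCoh.depth A A + n := by
    refine hd.trans ?_
    rw [(FlatDepth.ring_fibre_invariants (A := A) (B := T)).1]
    refine add_le_add le_rfl (WithBot.coe_le_coe.1 ?_)
    refine DepthLib.depth_le_supportDim.trans ?_
    rw [Module.supportDim_self_eq_ringKrullDim, ← IsRegularLocalRing.spanFinrank_maximalIdeal]
    rfl
  exact ptm_of_points hreg (le_trans (by norm_num) hd) fun R _ _ _ _ _ _ _ _ n' t hn' ht hr y hy =>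
    ptm_point (hn' ▸ hn) t ht hr (hn' ▸ hdn) y hy

end Groth.Agent.RamSam27
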