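import Groth.Agent.Lib.RamSam27.Core
import Groth.Agent.Lib.AdicSmooth.RegularIff
import Groth.Agent.Lib.FSFlat3.Forward
import Groth.Agent.Lib.CohenAlg3.Deform
import Groth.Agent.Lib.CplLocH7.Basic
import Groth.Agent.S2454
import Groth.Agent.S2461
import Groth.Agent.S4535
import Groth.Agent.S2366

/-!
# Ramanujam–Samuel for formally smooth local homomorphisms
-/

set_option autoImplicit false
set_option linter.style.haveILetI false

universe u

open TensorProduct IsLocalRing

namespace Groth.Agent.RamSam27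

open Groth.Agent.CIPic27 Groth.Agent.CplLocH7

theorem formallySmooth_localization {A B : Type u} [CommRing A] [CommRing B] [Algebra A B] {𝔞 : Ideal A}
    {𝔟 : Ideal B} (h : EGA41.IsFormallySmoothAdic A 𝔞 B 𝔟) (P : Ideal B) [P.IsPrime] (hP : 𝔟 ≤ P) :
    EGA41.IsFormallySmoothAdic A 𝔞 (Localization.AtPrime P) (maximalIdeal (Localization.AtPrime P)) := by
  intro C _ _ J hJ hC u hu
  obtain ⟨n, hn⟩ := hu
  let loc : B →ₐ[A] Localization.AtPrime P := IsScalarTower.toAlgHom A B _
  obtain ⟨v, hv⟩ := h C J hJ hC (u.comp loc) ⟨n, fun x hx => hn _ (by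
    rw [← Localization.AtPrime.map_eq_maximalIdeal, ← Ideal.map_pow]
    exact Ideal.mem_map_of_mem _ (Ideal.pow_right_mono hP n hx))⟩
  have hunit : ∀ s : P.primeCompl, IsUnit (v s.1) := fun s => by
    have h1 : IsUnit (Ideal.Quotient.mk J (v s.1)) := by
      rw [show Ideal.Quotient.mk J (v s.1) = u (loc s.1) from AlgHom.congr_fun hv s.1]
      exact (IsLocalization.map_units (Localization.AtPrime P) s).map u
    obtain ⟨c, hc⟩ := h1.exists_right_inv
    obtain ⟨c, rfl⟩ := Ideal.Quotient.mk_surjective c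
    have h2 : v s.1 * c - 1 ∈ J := by
      rw [← Ideal.Quotient.eq_zero_iff_mem, map_sub, map_mul, hc, map_one, sub_self]
    obtain ⟨k, hk⟩ := hJ
    have h3 : IsNilpotent (v s.1 * c - 1) := ⟨k, by
      have := Ideal.pow_mem_pow h2 k
      rwa [hk] at this⟩
    have h4 : IsUnit (1 + (v s.1 * c - 1)) := h3.isUnit_one_add
    rw [add_sub_cancel] at h4
    exact isUnit_of_mul_isUnit_left h4
  refine ⟨IsLocalization.liftAlgHom (f := v) hunit, IsLocalization.algHom_ext P.primeCompl (AlgHom.ext fun x => ?_)⟩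
  show Ideal.Quotient.mk J (IsLocalization.lift hunit (algebraMap B _ x)) = u (loc x)
  rw [IsLocalization.lift_eq]
  exact AlgHom.congr_fun hv x

theorem adicFS_of_EGA41 {A B : Type u} [CommRing A] [IsLocalRing A] [CommRing B] [IsLocalRing B] [Algebra A B]
    [IsLocalHom (algebraMap A B)] (h : EGA41.IsFormallySmoothAdic A (maximalIdeal A) B (maximalIdeal B)) :
    CAlgX.IsAdicFormallySmooth A B (maximalIdeal B) := by
  intro C _ _ J hJ ψ ⟨n, hn⟩
  refine h C J ⟨2, hJ⟩ ⟨n * 2, ?_⟩ ψ ⟨n, hn⟩
  rw [pow_mul, Ideal.map_pow, ← le_bot_iff, ← hJ]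
  refine Ideal.pow_right_mono (Ideal.map_le_iff_le_comap.2 fun a ha => ?_) 2
  rw [Ideal.mem_comap, ← Ideal.Quotient.eq_zero_iff_mem, Ideal.Quotient.mk_algebraMap, ← ψ.commutes]
  refine hn _ ?_
  have hle : (maximalIdeal A).map (algebraMap A B) ≤ maximalIdeal B := ((local_hom_TFAE (algebraMap A B)).out 0 2).1 ‹_›
  exact Ideal.pow_right_mono hle n (by rw [← Ideal.map_pow]; exact Ideal.mem_map_of_mem _ ha)

/-- A presentation of `T` as power series over a complete algebra `R`, over the base `A`. -/
structure Model (A T : Type u) [CommRing A] [CommRing T] [IsLocalRing A] [IsLocalRing T] [Algebra A T] where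
  R : Type u
  [ringR : CommRing R]
  [localR : IsLocalRing R]
  [noethR : IsNoetherianRing R]
  [algR : Algebra A R]
  [algT : Algebra R T]
  [tower : IsScalarTower A R T]
  [completeR : IsAdicComplete (maximalIdeal R) R]
  [localHomR : IsLocalHom (algebraMap A R)]
  [localHomT : IsLocalHom (algebraMap R T)]
  [flat : Module.Flat A T]
  map_max : (maximalIdeal A).map (algebraMap A R) = maximalIdeal R
  map_eq : (maximalIdeal R).map (algebraMap R T) = (maximalIdeal A).map (algebraMap A T)
  res : Function.Surjective (ResidueField.map (algebraMap R T))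
  regular : IsRegularLocalRing (T ⧸ (maximalIdeal R).map (algebraMap R T))

/-- The case of a separable residue extension. -/
theorem model_of_separable {A T : Type u} [CommRing A] [IsLocalRing A] [IsNoetherianRing A] [CommRing T]
    [IsLocalRing T] [IsNoetherianRing T] [IsAdicComplete (maximalIdeal T) T] [Algebra A T]
    [IsLocalHom (algebraMap A T)] (hfs : EGA41.IsFormallySmoothAdic A (maximalIdeal A) T (maximalIdeal T))
    [Algebra.IsGeometricallyReduced (ResidueField A) (ResidueField T)] : Nonempty (Model A T) := by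
  let k := ResidueField A
  have hk : Function.Surjective (algebraMap A k) := residue_surjective
  obtain ⟨hflat, hgeo⟩ := (FSFlat3.isAdicFormallySmooth_iff hk).1 (adicFS_of_EGA41 hfs)
  haveI := hflat
  let K := ResidueField T
  haveI : IsAdicComplete (maximalIdeal K) K := by
    rw [isField_iff_maximalIdeal_eq.mp (Field.toIsField K)]
    infer_instance
  obtain ⟨C, iC, iCl, iCn, iCA, iloc, π, hc, hflatC, hπ, hker, hπA⟩ := CohenAlg3.exists_lift A K
  haveI := hc
  haveI := hflatC
  have hmax : (maximalIdeal A).map (algebraMap A C) = maximalIdeal C :=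
    hker.symm.trans (eq_maximalIdeal (RingHom.ker_isMaximal_of_surjective π hπ))
  let e : ResidueField C ≃ₐ[k] K :=
    AlgEquiv.ofRingEquiv (f := (Ideal.quotEquivOfEq (hmax.symm.trans hker.symm)).trans
      (RingHom.quotientKerEquivOfSurjective hπ)) (fun x => by
      obtain ⟨a, rfl⟩ := residue_surjective x
      exact hπA a)
  haveI : Algebra.IsGeometricallyReduced k (ResidueField C) :=
    Algebra.IsGeometricallyReduced.of_injective e.toAlgHom e.injective
  have hC : EGA41.IsCohenAlgebra A C := ⟨inferInstance, iCn, hc, hflatC, hmax, inferInstance⟩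
  let u : C →ₐ[A] T ⧸ maximalIdeal T := { π with commutes' := fun a => hπA a }
  obtain ⟨v, hv⟩ := CohenAlg3.exists_lift_quot (Groth.Agent.S2454.result hC) (maximalIdeal T) le_rfl u hπ
  letI : Algebra C T := v.toRingHom.toAlgebra
  haveI : IsScalarTower A C T := .of_algebraMap_eq fun a => (v.commutes a).symm
  have hmapT : (maximalIdeal C).map (algebraMap C T) = (maximalIdeal A).map (algebraMap A T) := by
    rw [← hmax, Ideal.map_map, ← IsScalarTower.algebraMap_eq]
  let I := (maximalIdeal A).map (algebraMap A T)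
  have hI : I ≤ maximalIdeal T := ((local_hom_TFAE (algebraMap A T)).out 0 2).1 ‹_›
  haveI : IsLocalHom (algebraMap C T) := ((local_hom_TFAE (algebraMap C T)).out 0 2).2 (hmapT.le.trans hI)
  have hres : Function.Surjective (ResidueField.map (algebraMap C T)) := fun y => by
    obtain ⟨c, hc'⟩ := hπ y
    exact ⟨residue C c, (ResidueField.map_residue _ c).trans ((hv c).trans hc')⟩
  -- the closed fibre
  letI : Algebra k (T ⧸ I) := (Ideal.Quotient.lift (maximalIdeal A) (algebraMap A (T ⧸ I)) fun a ha => by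
    rw [IsScalarTower.algebraMap_apply A T (T ⧸ I)]
    exact Ideal.Quotient.eq_zero_iff_mem.2 (Ideal.mem_map_of_mem _ ha)).toAlgebra
  haveI : Nontrivial (T ⧸ I) := Ideal.Quotient.nontrivial_iff.2 fun h =>
    (maximalIdeal.isMaximal T).ne_top (top_le_iff.1 (h ▸ hI))
  haveI : IsLocalRing (T ⧸ I) := IsLocalRing.of_surjective' _ Ideal.Quotient.mk_surjective
  obtain ⟨e₀⟩ := CohenAlg3.nonempty_fibre_algEquiv' hk (Ideal.Quotient.mk I) Ideal.Quotient.mk_surjective Ideal.mk_ker
    (fun a => rfl)
  haveI : IsRegularLocalRing (T ⧸ I) := AdicSmooth.isRegularLocalRing_of_adicFS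
    (FSFlat3.adicFS_iff_geometricallyRegular.2 (CohenAlg3.isGeometricallyRegular_of_algEquiv e₀ hgeo))
  exact ⟨{ R := C, map_max := hmax, map_eq := hmapT, res := hres,
           regular := IsRegularLocalRing.of_ringEquiv (Ideal.quotEquivOfEq hmapT.symm) }⟩

/-- Geometric reducedness only depends on the field up to isomorphism. -/
theorem geomReduced_of_surjective {k₁ k₂ L : Type u} [Field k₁] [Field k₂] [CommRing L] [Algebra k₁ k₂]
    [Algebra k₂ L] [Algebra k₁ L] [IsScalarTower k₁ k₂ L] (hs : Function.Surjective (algebraMap k₁ k₂))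
    [Algebra.IsGeometricallyReduced k₂ L] : Algebra.IsGeometricallyReduced k₁ L := by
  rw [Algebra.isGeometricallyReduced_field_iff]
  let K := AlgebraicClosure k₁
  let e := RingEquiv.ofBijective (algebraMap k₁ k₂) ⟨(algebraMap k₁ k₂).injective, hs⟩
  letI : Algebra k₂ K := ((algebraMap k₁ K).comp e.symm.toRingHom).toAlgebra
  haveI : IsScalarTower k₁ k₂ K := .of_algebraMap_eq fun x => by
    show algebraMap k₁ K x = algebraMap k₁ K (e.symm (e x))
    rw [e.symm_apply_apply]
  haveI : Algebra.IsAlgebraic k₂ K := Algebra.IsAlgebraic.tower_top (K := k₁) k₂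
  haveI : TensorProduct.CompatibleSMul k₁ k₂ K L := ⟨fun r m n => by
    obtain ⟨x, rfl⟩ := hs r
    rw [algebraMap_smul, algebraMap_smul, TensorProduct.smul_tmul]⟩
  exact isReduced_of_injective (Algebra.TensorProduct.equivOfCompatibleSMul k₁ k₂ k₁ K L).symm.toRingHom
    (Algebra.TensorProduct.equivOfCompatibleSMul k₁ k₂ k₁ K L).symm.injective

/-- After a finite extension of the base, `B` is dominated by a power series ring. -/
theorem exists_model {A B : Type u} [CommRing A] [IsLocalRing A] [IsNoetherianRing A] [CommRing B]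
    [IsLocalRing B] [IsNoetherianRing B] [Algebra A B] [IsLocalHom (algebraMap A B)]
    (hfs : EGA41.IsFormallySmoothAdic A (maximalIdeal A) B (maximalIdeal B))
    (k' : Type u) [Field k'] [Algebra (ResidueField A) k'] [Module.Finite (ResidueField A) k']
    (M : Ideal (k' ⊗[ResidueField A] ResidueField B)) [M.IsMaximal]
    (hsep : Algebra.IsGeometricallyReduced k' ((k' ⊗[ResidueField A] ResidueField B) ⧸ M)) :
    ∃ (A' : Type u) (_ : CommRing A') (_ : IsLocalRing A') (_ : IsNoetherianRing A')
      (T : Type u) (_ : CommRing T) (_ : IsLocalRing T) (_ : IsNoetherianRing T) (_ : Algebra A' T) (_ : Algebra B T),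
      IsAdicComplete (maximalIdeal T) T ∧ Module.FaithfullyFlat B T ∧ IsLocalHom (algebraMap B T) ∧
      (∀ Q : PrimeSpectrum T, maximalIdeal B ≤ Q.asIdeal.comap (algebraMap B T) → maximalIdeal T ≤ Q.asIdeal) ∧
      (maximalIdeal A').map (algebraMap A' T) = ((maximalIdeal A).map (algebraMap A B)).map (algebraMap B T) ∧
      Nonempty (Model A' T) := by
  let k := ResidueField A
  obtain ⟨A', iA', iAA', iA'l, iA'h, iA'f, iA'fin, e, he⟩ := Groth.Agent.S2366.result (A := A) k'
  haveI := iA'l
  haveI := iA'h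
  haveI := iA'f
  haveI := iA'fin
  haveI : IsNoetherianRing A' := IsNoetherianRing.of_finite A A'
  have hA'm : (maximalIdeal A).map (algebraMap A A') = maximalIdeal A' :=
    eq_maximalIdeal (Ideal.Quotient.maximal_of_isField _ (MulEquiv.isField (Field.toIsField k') e.toMulEquiv))
  let B₁ := A' ⊗[A] B
  letI : Algebra B B₁ := Algebra.TensorProduct.rightAlgebra
  haveI : Module.Finite B B₁ := Module.Finite.equiv (Algebra.TensorProduct.commRight A B A').toLinearEquiv
  haveI : Module.Flat B B₁ := Module.Flat.of_linearEquiv (Algebra.TensorProduct.commRight A B A').toLinearEquiv.symm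
  haveI : IsNoetherianRing B₁ := IsNoetherianRing.of_finite B B₁
  -- the projection to the residue field
  let P₀ := k' ⊗[k] ResidueField B
  let qA : A' →+* k' := e.toRingHom.comp (Ideal.Quotient.mk _)
  letI : Algebra A P₀ := ((algebraMap k P₀).comp (residue A)).toAlgebra
  let f₁ : A' →ₐ[A] P₀ :=
    { (Algebra.TensorProduct.includeLeftRingHom : k' →+* P₀).comp qA with
      commutes' := fun a => by
        show (qA (algebraMap A A' a)) ⊗ₜ[k] (1 : ResidueField B) = _
        rw [show qA (algebraMap A A' a) = algebraMap k k' (residue A a) from he a]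
        rfl }
  let f₂ : B →ₐ[A] P₀ :=
    { (Algebra.TensorProduct.includeRight : ResidueField B →ₐ[k] P₀).toRingHom.comp (residue B) with
      commutes' := fun a => by
        show Algebra.TensorProduct.includeRight (residue B (algebraMap A B a)) = algebraMap k P₀ (residue A a)
        rw [← (Algebra.TensorProduct.includeRight : ResidueField B →ₐ[k] P₀).commutes]
        rfl }
  let g : B₁ →+* P₀ ⧸ M := (Ideal.Quotient.mk M).comp (Algebra.TensorProduct.lift f₁ f₂ fun _ _ => Commute.all _ _).toRingHom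
  have hg : Function.Surjective g := by
    refine Ideal.Quotient.mk_surjective.comp fun z => ?_
    induction z using TensorProduct.induction_on with
    | zero => exact ⟨0, map_zero _⟩
    | add x y hx hy =>
      obtain ⟨a, rfl⟩ := hx
      obtain ⟨b, rfl⟩ := hy
      exact ⟨a + b, map_add _ _ _⟩
    | tmul c d =>
      obtain ⟨b, rfl⟩ := residue_surjective d
      obtain ⟨a, rfl⟩ := e.surjective c
      obtain ⟨a, rfl⟩ := Ideal.Quotient.mk_surjective a
      refine ⟨a ⊗ₜ b, ?_⟩
      show f₁ a * f₂ b = _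
      exact (Algebra.TensorProduct.tmul_mul_tmul _ _ _ _).trans (by rw [mul_one, one_mul]; rfl)
  letI := Ideal.Quotient.field M
  let P := RingHom.ker g
  haveI hP : P.IsMaximal := RingHom.ker_isMaximal_of_surjective g hg
  have hgA : ∀ a ∈ maximalIdeal A', g (algebraMap A' B₁ a) = 0 := fun a ha => by
    show Ideal.Quotient.mk M (f₁ a * f₂ 1) = 0
    rw [map_one, mul_one]
    show Ideal.Quotient.mk M (qA a ⊗ₜ[k] (1 : ResidueField B)) = 0
    rw [show qA a = e (Ideal.Quotient.mk _ a) from rfl, Ideal.Quotient.eq_zero_iff_mem.2 (hA'm.ge ha), map_zero,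
      TensorProduct.zero_tmul, map_zero]
  have hgB : ∀ b ∈ maximalIdeal B, g (algebraMap B B₁ b) = 0 := fun b hb => by
    show Ideal.Quotient.mk M (f₁ 1 * f₂ b) = 0
    rw [map_one, one_mul]
    show Ideal.Quotient.mk M ((1 : k') ⊗ₜ[k] residue B b) = 0
    rw [(residue_eq_zero_iff b).2 hb, TensorProduct.tmul_zero, map_zero]
  have hle : (maximalIdeal A').map (algebraMap A' B₁) ⊔
      (maximalIdeal B).map (Algebra.TensorProduct.includeRight : B →ₐ[A] B₁).toRingHom ≤ P :=
    sup_le (Ideal.map_le_iff_le_comap.2 hgA) (Ideal.map_le_iff_le_comap.2 hgB)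
  have hfs₁ := formallySmooth_localization (Groth.Agent.S4535.result (A' := A') (maximalIdeal A) (maximalIdeal B)
    (maximalIdeal A') ⟨1, by rw [pow_one, hA'm]⟩ hfs) P hle
  let T₀ := Localization.AtPrime P
  haveI : IsNoetherianRing T₀ := IsLocalization.isNoetherianRing P.primeCompl _ inferInstance
  let T := Cpl T₀
  haveI := faithfullyFlat_cpl T₀
  haveI : IsAdicComplete (maximalIdeal T) T := by
    rw [maximalIdeal_cpl]; exact AdicCompletion.isAdicComplete_self _ (maximalIdeal T₀).fg_of_isNoetherianRing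
  have hfsT : EGA41.IsFormallySmoothAdic A' (maximalIdeal A') T (maximalIdeal T) := by
    rw [maximalIdeal_cpl]
    exact (Groth.Agent.S2461.result (maximalIdeal A') (maximalIdeal T₀)).1 hfs₁
  haveI : IsLocalHom (algebraMap A' T₀) := by
    refine ((local_hom_TFAE (algebraMap A' T₀)).out 0 2).2 ?_
    rw [IsScalarTower.algebraMap_eq A' B₁ T₀, ← Ideal.map_map, ← Localization.AtPrime.map_eq_maximalIdeal]
    exact Ideal.map_mono (le_sup_left.trans hle)
  haveI : IsLocalHom (algebraMap T₀ T) :=
    ((local_hom_TFAE (algebraMap T₀ T)).out 2 0).1 (maximalIdeal_cpl T₀).ge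
  haveI : IsLocalHom (algebraMap A' T) := by
    rw [IsScalarTower.algebraMap_eq A' T₀ T]; exact RingHom.isLocalHom_comp _ _
  haveI : Module.Flat B₁ T₀ := IsLocalization.flat _ P.primeCompl
  haveI : Module.Flat B T₀ := Module.Flat.trans B B₁ T₀
  haveI : Module.Flat B T := Module.Flat.trans B T₀ T
  haveI : IsLocalHom (algebraMap B T₀) := by
    refine ((local_hom_TFAE (algebraMap B T₀)).out 0 2).2 ?_
    rw [IsScalarTower.algebraMap_eq B B₁ T₀, ← Ideal.map_map, ← Localization.AtPrime.map_eq_maximalIdeal]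
    exact Ideal.map_mono (le_sup_right.trans hle)
  haveI : IsLocalHom (algebraMap B T) := by
    rw [IsScalarTower.algebraMap_eq B T₀ T]; exact RingHom.isLocalHom_comp _ _
  haveI : Module.FaithfullyFlat B T := Module.FaithfullyFlat.of_flat_of_isLocalHom
  have hT₀ : ∀ Q : Ideal T₀, Q.IsPrime → maximalIdeal B ≤ Q.comap (algebraMap B T₀) → Q = maximalIdeal T₀ := by
    intro Q hQ hQB
    haveI := hQ
    let Q₁ := Q.comap (algebraMap B₁ T₀)
    haveI : (Q₁.comap (algebraMap B B₁)).IsMaximal := by
      rw [← (maximalIdeal.isMaximal B).eq_of_le (Ideal.IsPrime.comap _).ne_top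
        (by rw [Ideal.comap_comap, ← IsScalarTower.algebraMap_eq]; exact hQB)]
      exact maximalIdeal.isMaximal B
    haveI : Algebra.IsIntegral B B₁ := Algebra.IsIntegral.of_finite B B₁
    have hQ₁ : Q₁.IsMaximal := Ideal.isMaximal_of_isIntegral_of_isMaximal_comap (R := B) Q₁ inferInstance
    have hQ₁P : Q₁ = P := hQ₁.eq_of_le hP.ne_top fun x hx => by
      by_contra hxP
      exact hQ.ne_top (Ideal.eq_top_of_isUnit_mem _ hx (IsLocalization.map_units T₀ (⟨x, hxP⟩ : P.primeCompl)))
    refine (IsLocalization.map_comap P.primeCompl T₀ Q).symm.trans ?_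
    exact (congrArg (Ideal.map (algebraMap B₁ T₀)) hQ₁P).trans Localization.AtPrime.map_eq_maximalIdeal
  have hprim : ∀ Q : PrimeSpectrum T, maximalIdeal B ≤ Q.asIdeal.comap (algebraMap B T) →
      maximalIdeal T ≤ Q.asIdeal := fun Q hQ => by
    rw [maximalIdeal_cpl, Ideal.map_le_iff_le_comap]
    refine (hT₀ _ (Ideal.IsPrime.comap _) ?_).ge
    rwa [Ideal.comap_comap, ← IsScalarTower.algebraMap_eq]
  -- the separable case
  let k'' := ResidueField A'
  haveI hgr : Algebra.IsGeometricallyReduced k'' (ResidueField T) := by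
    let L := P₀ ⧸ M
    let ψ₀ : T₀ →+* L := IsLocalization.lift (M := P.primeCompl) (g := g) fun x => isUnit_iff_ne_zero.2 x.2
    have hψ₀ : ∀ x, ψ₀ (algebraMap B₁ T₀ x) = g x := fun x => IsLocalization.lift_eq _ x
    have hψ₀m : ∀ t ∈ maximalIdeal T₀ ^ 1, ψ₀ t = 0 := fun t ht => by
      rw [pow_one, ← Localization.AtPrime.map_eq_maximalIdeal] at ht
      refine (Ideal.map_le_iff_le_comap (K := RingHom.ker ψ₀)).2 (fun x hx => ?_) ht
      exact (hψ₀ x).trans hx
    let ψ : T →+* L := (Ideal.Quotient.lift _ ψ₀ hψ₀m).comp (AdicCompletion.evalₐ (maximalIdeal T₀) 1).toRingHom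
    have hψ : ∀ t, ψ (algebraMap T₀ T t) = ψ₀ t := fun t => by
      show Ideal.Quotient.lift _ ψ₀ hψ₀m (AdicCompletion.evalₐ (maximalIdeal T₀) 1 (algebraMap T₀ _ t)) = _
      rw [AlgHom.commutes]
      rfl
    have hψm : ∀ t ∈ maximalIdeal T, ψ t = 0 := fun t ht => by
      rw [maximalIdeal_cpl] at ht
      refine (Ideal.map_le_iff_le_comap (K := RingHom.ker ψ)).2 (fun x hx => ?_) ht
      exact (hψ x).trans (hψ₀m x (by rwa [pow_one]))
    let ρ : ResidueField T →+* L := Ideal.Quotient.lift _ ψ hψm
    letI : Algebra k'' k' :=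
      (Ideal.Quotient.lift _ qA fun a ha => by
        show e (Ideal.Quotient.mk _ a) = 0
        rw [Ideal.Quotient.eq_zero_iff_mem.2 (hA'm.ge ha), map_zero] : k'' →+* k').toAlgebra
    haveI : Algebra.IsGeometricallyReduced k'' L := geomReduced_of_surjective (k₂ := k') fun c => by
      obtain ⟨a, rfl⟩ := e.surjective c
      obtain ⟨a, rfl⟩ := Ideal.Quotient.mk_surjective a
      exact ⟨residue A' a, rfl⟩
    let ρ' : ResidueField T →ₐ[k''] L :=
      { ρ with
        commutes' := fun c => by
          obtain ⟨a, rfl⟩ := residue_surjective c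
          show ψ (algebraMap A' T a) = _
          rw [IsScalarTower.algebraMap_apply A' T₀ T, hψ, IsScalarTower.algebraMap_apply A' B₁ T₀, hψ₀]
          show Ideal.Quotient.mk M (f₁ a * f₂ 1) = _
          rw [map_one, mul_one]
          rfl }
    exact Algebra.IsGeometricallyReduced.of_injective ρ' ρ.injective
  haveI : IsScalarTower A B T := .of_algebraMap_eq fun a => by
    rw [IsScalarTower.algebraMap_apply A B₁ T, IsScalarTower.algebraMap_apply B B₁ T]
    congr 1
    exact ((Algebra.TensorProduct.includeRight : B →ₐ[A] B₁).commutes a).symm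
  refine ⟨A', iA', iA'l, inferInstance, T, inferInstance, inferInstance, inferInstance, inferInstance, inferInstance,
    inferInstance, inferInstance, inferInstance, hprim, ?_, model_of_separable hfsT⟩
  rw [Ideal.map_map, ← IsScalarTower.algebraMap_eq, ← hA'm, Ideal.map_map, ← IsScalarTower.algebraMap_eq]

/-- Ramanujam–Samuel–Boutot: a formally smooth local homomorphism with a residue extension which is separable
after a finite extension. -/
theorem ptm_formallySmooth {A B : Type u} [CommRing A] [IsLocalRing A] [IsNoetherianRing A] [CommRing B]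
    [IsLocalRing B] [IsNoetherianRing B] [Algebra A B] [IsLocalHom (algebraMap A B)]
    (hfs : EGA41.IsFormallySmoothAdic A (maximalIdeal A) B (maximalIdeal B))
    (hne : ∃ Q : PrimeSpectrum B, (maximalIdeal A).map (algebraMap A B) ≤ Q.asIdeal ∧ Q.asIdeal ≠ maximalIdeal B)
    (hd : (3 : ℕ∞) ≤ LocCoh.depth B B)
    (k' : Type u) [Field k'] [Algebra (ResidueField A) k'] [Module.Finite (ResidueField A) k']
    (M : Ideal (k' ⊗[ResidueField A] ResidueField B)) [M.IsMaximal]
    (hsep : Algebra.IsGeometricallyReduced k' ((k' ⊗[ResidueField A] ResidueField B) ⧸ M)) : PTm B := by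
  obtain ⟨A', _, _, _, T, _, _, _, _, _, hc, hff, hloc, hprim, hmap, ⟨P⟩⟩ := exists_model hfs k' M hsep
  haveI := hc
  haveI := hff
  haveI := hloc
  letI := P.ringR
  letI := P.algR
  letI := P.algT
  haveI := P.localR
  haveI := P.noethR
  haveI := P.tower
  haveI := P.completeR
  haveI := P.localHomR
  haveI := P.localHomT
  haveI := P.flat
  haveI := P.regular
  refine ptm_of_faithfullyFlat (A := B) (S := T) hprim (ptm_of_flat_rational (A := A') (R := P.R) P.map_max P.res ?_
    (hd.trans (FEtEq25.depth_le_of_flat_local (algebraMap B T) (RingHom.flat_algebraMap_iff.2 inferInstance))))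
  obtain ⟨Q, hQA, hQne⟩ := hne
  obtain ⟨Q', hQ'⟩ := PrimeSpectrum.comap_surjective_of_faithfullyFlat (A := B) (B := T) Q
  refine ⟨Q', ?_, fun h => hQne ?_⟩
  · rw [P.map_eq, hmap, Ideal.map_le_iff_le_comap]
    exact hQA.trans (by rw [← hQ']; exact le_rfl)
  · rw [← hQ', PrimeSpectrum.comap_asIdeal, h]
    exact ((local_hom_TFAE (algebraMap B T)).out 0 4).1 ‹_›

end Groth.Agent.RamSam27
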